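import Mathlib.RingTheory.Nullstellensatz
import Mathlib.RingTheory.MvPolynomial.Homogeneous
import Mathlib.RingTheory.Spectrum.Prime.Chevalley
import Mathlib.RingTheory.Spectrum.Prime.ConstructibleSet
import Mathlib.LinearAlgebra.LinearIndependent.Basic
import Mathlib.RingTheory.Jacobson.Ring

/-!
Elementary geometry of algebraic sets of points in affine space, and weights of matrix representations of split tori.
-/

set_option autoImplicit false
universe u

open MvPolynomial

noncomputable section

namespace Groth.Agf2.Chev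

variable {k : Type u} [Field k] {ι : Type} [Fintype ι]

/-- `S` is the zero locus of a set of polynomials. -/
def IsZ (S : Set (ι → k)) : Prop :=
  ∀ v, (∀ P : MvPolynomial ι k, (∀ c ∈ S, eval c P = 0) → eval v P = 0) → v ∈ S

omit [Fintype ι] in
theorem aeval_curve (p : ι → Polynomial k) (P : MvPolynomial ι k) (t : k) :
    (aeval p P).eval t = eval (fun i => (p i).eval t) P := by
  induction P using MvPolynomial.induction_on with
  | C a => simp
  | add a b ha hb => simp [map_add, ha, hb]
  | mul_X a i ha => simp [ha]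

omit [Fintype ι] in
/-- A closed set contains the limit of a polynomial curve in it. -/
theorem mem_of_curve [Infinite k] {S : Set (ι → k)} (hS : IsZ S) (p : ι → Polynomial k)
    (h : ∀ t : k, t ≠ 0 → (fun i => (p i).eval t) ∈ S) : (fun i => (p i).eval 0) ∈ S := by
  refine hS _ fun P hP => ?_
  have hz : aeval p P = 0 := Polynomial.eq_zero_of_infinite_isRoot _
    (((Set.finite_singleton (0 : k)).infinite_compl).mono fun t ht => (aeval_curve p P t).trans (hP _ (h t ht)))
  rw [← aeval_curve, hz, Polynomial.eval_zero]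

theorem eval_smul_component (c : k) (v : ι → k) (P : MvPolynomial ι k) :
    eval (c • v) P = ∑ i ∈ Finset.range (P.totalDegree + 1), c ^ i * eval v (homogeneousComponent i P) := by
  classical
  conv_lhs => rw [← sum_homogeneousComponent P, map_sum]
  refine Finset.sum_congr rfl fun i _ => ?_
  have hi := homogeneousComponent_isHomogeneous i P
  generalize homogeneousComponent i P = Q at hi ⊢
  rw [eval_eq', eval_eq', Finset.mul_sum]
  refine Finset.sum_congr rfl fun d hd => ?_
  have hdeg : ∑ j, d j = i := by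
    have := hi (mem_support_iff.1 hd)
    rwa [Finsupp.weight_apply, Finsupp.sum_fintype _ _ (fun _ => by simp), Finset.sum_congr rfl
      (fun j _ => show d j • (1 : ι → ℕ) j = d j by simp)] at this
  simp only [Pi.smul_apply, smul_eq_mul, mul_pow, Finset.prod_mul_distrib, Finset.prod_pow_eq_pow_sum, hdeg]
  ring

/-- The homogeneous parts of a polynomial vanishing on a cone vanish on it. -/
theorem component_eq_zero [Infinite k] {S : Set (ι → k)} (hS : ∀ c : k, c ≠ 0 → ∀ v ∈ S, c • v ∈ S)
    {P : MvPolynomial ι k} (hP : ∀ v ∈ S, eval v P = 0) {v : ι → k} (hv : v ∈ S) (i : ℕ) :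
    eval v (homogeneousComponent i P) = 0 := by
  classical
  let Q : Polynomial k :=
    ∑ i ∈ Finset.range (P.totalDegree + 1), Polynomial.monomial i (eval v (homogeneousComponent i P))
  have hQ : Q = 0 := Polynomial.eq_zero_of_infinite_isRoot _
    (((Set.finite_singleton (0 : k)).infinite_compl).mono fun c hc => by
      show Q.eval c = 0
      rw [← hP _ (hS c hc v hv), eval_smul_component, Polynomial.eval_finsetSum]
      exact Finset.sum_congr rfl fun j _ => by rw [Polynomial.eval_monomial]; ring)
  by_cases hi : i ∈ Finset.range (P.totalDegree + 1)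
  · have := congrArg (Polynomial.coeff · i) hQ
    rw [Polynomial.coeff_zero, Polynomial.finsetSum_coeff] at this
    simp only [Polynomial.coeff_monomial] at this
    rwa [Finset.sum_ite_eq', if_pos hi] at this
  · rw [homogeneousComponent_eq_zero i P (by have := Finset.mem_range.not.1 hi; omega), map_zero]

/-- A closed set in an affine hyperplane without points at infinity is finite. -/
theorem finite_of_no_infinity [IsAlgClosed k] {O : Set (ι → k)} (a : ι → k) (hO : ∀ v ∈ O, a ⬝ᵥ v = 1)
    (hinf : ∀ z, a ⬝ᵥ z = 0 →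
      (∀ (d : ℕ) (P : MvPolynomial ι k), P.IsHomogeneous d → (∀ v ∈ O, eval v P = 0) → eval z P = 0) → z = 0) :
    O.Finite := by
  classical
  let L : MvPolynomial ι k := ∑ i, C (a i) * X i
  have hL : ∀ v, eval v L = a ⬝ᵥ v := fun v => by simp [L, dotProduct]
  have hLh : L.IsHomogeneous 1 := IsHomogeneous.sum _ _ _ fun i _ => isHomogeneous_C_mul_X _ i
  let gens : Set (MvPolynomial ι k) := {P | ∃ d, P.IsHomogeneous d ∧ ∀ v ∈ O, eval v P = 0} ∪ {L}
  have hI : ∀ i, X i ∈ (Ideal.span gens).radical := by
    intro i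
    rw [← vanishingIdeal_zeroLocus_eq_radical (K := k), mem_vanishingIdeal_iff]
    intro z hz
    have hzero : z = 0 := hinf z
      (by
        have h0 := hz L (Ideal.subset_span (Or.inr rfl))
        rw [aeval_eq_eval] at h0
        exact (hL z).symm.trans h0)
      (fun d P hP hv => by
        have h0 := hz P (Ideal.subset_span (Or.inl ⟨d, hP, hv⟩))
        rwa [aeval_eq_eval] at h0)
    simp [hzero]
  choose N hN using fun i => Ideal.mem_radical_iff.1 (hI i)
  let Φ : MvPolynomial ι k → Prop := fun q => ∀ n, ∃ g : MvPolynomial ι k,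
    (∀ u ∈ g.support, u.degree < n) ∧ ∀ v ∈ O, eval v (homogeneousComponent n q) = eval v g
  have comp_mul : ∀ (r P : MvPolynomial ι k) (d n : ℕ), P.IsHomogeneous d →
      homogeneousComponent n (r * P) = (if d ≤ n then homogeneousComponent (n - d) r else 0) * P := by
    intro r P d n hP
    conv_lhs => rw [← sum_homogeneousComponent r, Finset.sum_mul, map_sum]
    rw [Finset.sum_congr rfl fun j _ => homogeneousComponent_of_mem (n := j + d)
      ((mem_homogeneousSubmodule (j + d) _).2 ((homogeneousComponent_isHomogeneous j r).mul hP))]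
    by_cases hdn : d ≤ n
    · rw [if_pos hdn, Finset.sum_congr rfl fun j _ =>
        show (if n = j + d then homogeneousComponent j r * P else 0) =
          if n - d = j then homogeneousComponent j r * P else 0 by
            exact if_congr (by omega) rfl rfl, Finset.sum_ite_eq]
      split_ifs with h
      · rfl
      · rw [homogeneousComponent_eq_zero (n - d) r (by have := Finset.mem_range.not.1 h; omega), zero_mul]
    · rw [if_neg hdn, zero_mul]
      exact Finset.sum_eq_zero fun j _ => if_neg (by omega)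
  have hΦ : ∀ q ∈ Ideal.span gens, Φ q := by
    intro q hq n
    obtain ⟨c, rfl⟩ := Finsupp.mem_span_iff_linearCombination _ _ _ |>.1 hq
    have hone : ∀ s : gens, ∃ g : MvPolynomial ι k, (∀ u ∈ g.support, u.degree < n) ∧
        ∀ v ∈ O, eval v (homogeneousComponent n (c s * s.1)) = eval v g := by
      rintro ⟨P, ⟨d, hd, hv⟩ | rfl⟩
      · exact ⟨0, by simp, fun v h => by rw [comp_mul _ _ d n hd, map_mul, hv v h, mul_zero, map_zero]⟩
      · by_cases hn : 1 ≤ n
        · refine ⟨homogeneousComponent (n - 1) (c ⟨L, Or.inr rfl⟩), fun u hu => ?_, fun v h => ?_⟩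
          · have := homogeneousComponent_isHomogeneous (n - 1) (c ⟨L, Or.inr rfl⟩) (mem_support_iff.1 hu)
            rw [Finsupp.degree_eq_weight_one]
            simp only [Pi.one_def] at this ⊢
            omega
          · rw [comp_mul _ _ 1 n hLh, if_pos hn, map_mul, hL, hO v h, mul_one]
        · exact ⟨0, by simp, fun v _ => by rw [comp_mul _ _ 1 n hLh, if_neg hn, zero_mul]⟩
    choose g hg1 hg2 using hone
    refine ⟨∑ s ∈ c.support, g s, fun u hu => ?_, fun v h => ?_⟩
    · obtain ⟨s, -, hs⟩ := Finset.mem_biUnion.1 (support_sum hu)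
      exact hg1 s u hs
    · rw [Finsupp.linearCombination_apply, Finsupp.sum, map_sum, map_sum, map_sum]
      exact Finset.sum_congr rfl fun s _ => hg2 s v h
  -- functions on `O` are combinations of finitely many monomials
  let box : Finset (ι →₀ ℕ) := (Fintype.piFinset fun i => Finset.range (N i)).map Finsupp.equivFunOnFinite.symm.toEmbedding
  let ev : MvPolynomial ι k →ₗ[k] (O → k) :=
    { toFun := fun P v => eval v.1 P
      map_add' := fun P Q => by ext v; simp
      map_smul' := fun c P => by ext v; simp }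
  let W : Submodule k (O → k) := Submodule.span k ↑(box.image fun u => ev (monomial u 1))
  have hmono : ∀ n : ℕ, ∀ u : ι →₀ ℕ, u.degree = n → ev (monomial u 1) ∈ W := by
    intro n
    induction n using Nat.strong_induction_on with
    | _ n ih =>
      intro u hu
      by_cases hbox : u ∈ box
      · exact Submodule.subset_span (Finset.mem_coe.2 (Finset.mem_image_of_mem _ hbox))
      obtain ⟨i, hi⟩ : ∃ i, N i ≤ u i := by
        by_contra! h
        exact hbox (Finset.mem_map.2 ⟨u, Fintype.mem_piFinset.2 fun i => Finset.mem_range.2 (h i),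
          Finsupp.equivFunOnFinite.symm_apply_apply u⟩)
      obtain ⟨g, hg1, hg2⟩ := hΦ _ (hN i) (N i)
      rw [homogeneousComponent_of_mem (n := N i) ((mem_homogeneousSubmodule _ _).2 (isHomogeneous_X_pow i (N i))),
        if_pos rfl] at hg2
      set w : ι →₀ ℕ := u - Finsupp.single i (N i) with hw
      have huw : u = w + Finsupp.single i (N i) := by
        rw [hw, tsub_add_cancel_of_le (Finsupp.single_le_iff.2 hi)]
      have e : ev (monomial u 1) = ∑ x ∈ g.support, g.coeff x • ev (monomial (w + x) 1) := by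
        have h1 : ev (monomial u 1) = ev (monomial w 1 * g) := by
          funext v
          show eval v.1 _ = eval v.1 _
          rw [map_mul, ← hg2 v.1 v.2, ← map_mul, huw, X_pow_eq_monomial, monomial_mul, one_mul]
        rw [h1]
        conv_lhs => rw [g.as_sum, Finset.mul_sum, map_sum]
        refine Finset.sum_congr rfl fun x _ => ?_
        rw [monomial_mul, one_mul, ← map_smul, smul_monomial, smul_eq_mul, mul_one]
      rw [e]
      refine Submodule.sum_mem _ fun x hx => Submodule.smul_mem _ _ (ih _ ?_ _ rfl)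
      rw [← hu, huw]
      simp only [map_add, Finsupp.degree_single]
      have := hg1 x hx
      omega
  have hW : ∀ P, ev P ∈ W := fun P => by
    rw [P.as_sum, map_sum]
    refine Submodule.sum_mem _ fun u _ => ?_
    have : monomial u (P.coeff u) = P.coeff u • monomial u 1 := by rw [smul_monomial, smul_eq_mul, mul_one]
    rw [this, map_smul]
    exact Submodule.smul_mem _ _ (hmono _ u rfl)
  have : Module.Finite k W := Module.Finite.span_of_finite k (Finset.finite_toSet _)
  refine Set.not_infinite.1 fun hinf' => ?_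
  obtain ⟨F, hFO, hF⟩ := hinf'.exists_subset_card_eq (Module.finrank k W + 1)
  let res : W →ₗ[k] (F → k) := LinearMap.pi fun v => (LinearMap.proj ⟨v.1, hFO v.2⟩).comp W.subtype
  have hres : Function.Surjective res := by
    rw [← LinearMap.range_eq_top, eq_top_iff, ← (Pi.basisFun k F).span_eq, Submodule.span_le]
    rintro _ ⟨v, rfl⟩
    have hsep : ∀ w : F, w ≠ v → ∃ i, v.1 i ≠ w.1 i := fun w hw => by
      by_contra! h
      exact hw (Subtype.ext (funext fun i => (h i).symm))
    choose sel hsel using hsep
    let fac : {w // w ∈ Finset.univ.erase v} → MvPolynomial ι k := fun w =>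
      C ((v.1 (sel w.1 (Finset.ne_of_mem_erase w.2)) - w.1.1 (sel w.1 (Finset.ne_of_mem_erase w.2)))⁻¹) *
        (X (sel w.1 (Finset.ne_of_mem_erase w.2)) - C (w.1.1 (sel w.1 (Finset.ne_of_mem_erase w.2))))
    let P : MvPolynomial ι k := ∏ w ∈ (Finset.univ.erase v).attach, fac w
    refine ⟨⟨ev P, hW P⟩, funext fun w => ?_⟩
    show eval w.1 P = _
    rw [Pi.basisFun_apply, map_prod]
    by_cases hwv : w = v
    · subst hwv
      rw [Pi.single_eq_same]
      refine Finset.prod_eq_one fun x _ => ?_
      have := sub_ne_zero.2 (hsel x.1 (Finset.ne_of_mem_erase x.2))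
      simp [fac, this]
    · rw [Pi.single_eq_of_ne hwv]
      refine Finset.prod_eq_zero (Finset.mem_attach _ ⟨w, Finset.mem_erase.2 ⟨hwv, Finset.mem_univ w⟩⟩) ?_
      simp [fac]
  have := LinearMap.finrank_le_finrank_of_surjective hres
  rw [Module.finrank_pi, Fintype.card_coe, hF] at this
  omega

/-- A proper ideal has a rational zero. -/
theorem exists_point {k : Type u} [Field k] [IsAlgClosed k] {B : Type u} [CommRing B] [Algebra k B]
    [Algebra.FiniteType k B] (I : Ideal B) (hI : I ≠ ⊤) : ∃ g : B →ₐ[k] k, I ≤ RingHom.ker g := by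
  obtain ⟨m, hm, hIm⟩ := I.exists_le_maximal hI
  have hfin : Module.Finite k (B ⧸ m) :=
    letI : Field (B ⧸ m) := Ideal.Quotient.field m
    finite_of_finite_type_of_isJacobsonRing k (B ⧸ m)
  have hbij : Function.Bijective (algebraMap k (B ⧸ m)) :=
    letI : Field (B ⧸ m) := Ideal.Quotient.field m
    IsAlgClosed.algebraMap_bijective_of_isIntegral
  let e := AlgEquiv.ofBijective (Algebra.ofId k (B ⧸ m)) hbij
  refine ⟨e.symm.toAlgHom.comp (Ideal.Quotient.mkₐ k m), fun b hb => ?_⟩
  have : Ideal.Quotient.mkₐ k m b = 0 := Ideal.Quotient.eq_zero_iff_mem.2 (hIm hb)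
  rw [RingHom.mem_ker, AlgHom.comp_apply, this, map_zero]

/-- Points of an injective map of affine varieties lift over a nonempty open set. -/
theorem exists_lift_open [IsAlgClosed k] {R A : Type u} [CommRing R] [Algebra k R] [Algebra.FiniteType k R]
    [CommRing A] [IsDomain A] [Algebra k A] [Algebra.FiniteType k A] (o : R →ₐ[k] A) :
    ∃ r : R, o r ≠ 0 ∧ ∀ z : R →ₐ[k] k, (∀ f, o f = 0 → z f = 0) → z r ≠ 0 → ∃ g : A →ₐ[k] k, g.comp o = z := by
  have : IsNoetherianRing R := Algebra.FiniteType.isNoetherianRing k R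
  have hfp : o.toRingHom.FinitePresentation := RingHom.FinitePresentation.of_finiteType.1
    (AlgHom.FiniteType.of_comp_finiteType (f := Algebra.ofId k R) (g := o)
      (by rw [show o.comp (Algebra.ofId k R) = Algebra.ofId k A from Subsingleton.elim _ _]
          exact RingHom.finiteType_algebraMap.2 inferInstance))
  obtain ⟨D, hD⟩ := PrimeSpectrum.exists_constructibleSetData_iff.2
    (PrimeSpectrum.isConstructible_range_comap hfp)
  let p : PrimeSpectrum R := PrimeSpectrum.comap o.toRingHom ⟨⊥, Ideal.isPrime_bot⟩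
  have hp : p ∈ Set.range (PrimeSpectrum.comap o.toRingHom) := ⟨_, rfl⟩
  rw [← hD] at hp
  simp only [PrimeSpectrum.ConstructibleSetData.toSet, Set.mem_iUnion] at hp
  obtain ⟨C, hCD, hg, hf⟩ := hp
  refine ⟨C.f, fun h => hf (by simpa [p, RingHom.mem_ker] using h), fun z hz hzf => ?_⟩
  have hq : (⟨RingHom.ker z, RingHom.ker_isPrime z⟩ : PrimeSpectrum R) ∈ Set.range (PrimeSpectrum.comap o.toRingHom) := by
    rw [← hD]
    simp only [PrimeSpectrum.ConstructibleSetData.toSet, Set.mem_iUnion]
    refine ⟨C, hCD, fun f hf' => ?_, fun h => hzf (by simpa [RingHom.mem_ker] using h)⟩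
    have := hg hf'
    exact RingHom.mem_ker.2 (hz f (by simpa [p, RingHom.mem_ker] using this))
  obtain ⟨Q, hQ⟩ := hq
  obtain ⟨g, hg'⟩ := exists_point (k := k) Q.asIdeal Q.isPrime.ne_top
  refine ⟨g, AlgHom.ext fun f => ?_⟩
  have h1 : f - algebraMap k R (z f) ∈ RingHom.ker z := by simp [RingHom.mem_ker]
  have h2 : o (f - algebraMap k R (z f)) ∈ Q.asIdeal := by
    have := congrArg PrimeSpectrum.asIdeal hQ
    exact (SetLike.ext_iff.1 this _).2 h1
  have h3 := RingHom.mem_ker.1 (hg' h2)
  rw [map_sub, map_sub, AlgHom.commutes, AlgHom.commutes, Algebra.algebraMap_self, RingHom.id_apply, sub_eq_zero] at h3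
  exact h3

section Weights

variable {r : ℕ}

/-- The character of a lattice point. -/
def ch (χ : Fin r → ℤ) : (Fin r → kˣ) →* k where
  toFun x := ((∏ i, x i ^ χ i : kˣ) : k)
  map_one' := by simp
  map_mul' x y := by simp [mul_zpow, Finset.prod_mul_distrib]

/-- A one-parameter subgroup. -/
def cochar (v : (Fin r → ℤ) →+ ℤ) (t : kˣ) : Fin r → kˣ := fun i => t ^ v (Pi.single i 1)

theorem ch_cochar (v : (Fin r → ℤ) →+ ℤ) (t : kˣ) (χ : Fin r → ℤ) :
    ch χ (cochar v t) = ((t ^ v χ : kˣ) : k) := by
  classical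
  show ((∏ i, (t ^ v (Pi.single i 1)) ^ χ i : kˣ) : k) = _
  congr 1
  have : v χ = ∑ i, v (Pi.single i 1) * χ i := by
    conv_lhs => rw [← Finset.univ_sum_single χ, map_sum]
    refine Finset.sum_congr rfl fun i _ => ?_
    rw [show Pi.single i (χ i) = χ i • (Pi.single i (1 : ℤ) : Fin r → ℤ) by
      rw [← Pi.single_smul]; simp, map_zsmul, smul_eq_mul, mul_comm]
  rw [this]
  simp only [← zpow_mul]
  generalize (Finset.univ : Finset (Fin r)) = S
  induction S using Finset.induction_on with
  | empty => simp
  | insert a S ha ih => rw [Finset.prod_insert ha, Finset.sum_insert ha, ih, zpow_add]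

variable [IsAlgClosed k]

theorem ch_injective : Function.Injective (ch (k := k) (r := r)) := by
  classical
  intro χ χ' h
  funext i
  by_contra hne
  let n : ℤ := χ i - χ' i
  have hn : n ≠ 0 := sub_ne_zero.2 hne
  have hall : ∀ t : kˣ, t ^ n = 1 := fun t => by
    have := DFunLike.congr_fun h (Pi.mulSingle i t)
    simp only [ch, MonoidHom.coe_mk, OneHom.coe_mk, Units.val_inj] at this
    rw [Finset.prod_eq_single i (fun j _ hj => by rw [Pi.mulSingle_eq_of_ne hj, one_zpow]) (by simp),
      Finset.prod_eq_single i (fun j _ hj => by rw [Pi.mulSingle_eq_of_ne hj, one_zpow]) (by simp),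
      Pi.mulSingle_eq_same] at this
    rw [zpow_sub, this, mul_inv_cancel]
  have hroots : ∀ t : k, t ≠ 0 → (Polynomial.X ^ n.natAbs - 1 : Polynomial k).IsRoot t := fun t ht => by
    have h1 := hall (Units.mk0 t ht)
    have h2 : (Units.mk0 t ht) ^ n.natAbs = 1 := by
      rcases Int.natAbs_eq n with e | e
      · rw [← zpow_natCast, ← e, h1]
      · rw [e, zpow_neg, inv_eq_one, zpow_natCast] at h1
        exact h1
    simpa [Polynomial.IsRoot, sub_eq_zero] using congrArg Units.val h2
  have hzero : (Polynomial.X ^ n.natAbs - 1 : Polynomial k) = 0 := Polynomial.eq_zero_of_infinite_isRoot _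
    (((Set.finite_singleton (0 : k)).infinite_compl).mono fun t ht => hroots t ht)
  exact Polynomial.X_pow_sub_C_ne_zero (Int.natAbs_pos.2 hn) (1 : k) (by simpa using hzero)

theorem ch_indep {s : Finset (Fin r → ℤ)} {c : (Fin r → ℤ) → k} (h : ∀ x, ∑ χ ∈ s, c χ * ch χ x = 0) {χ : Fin r → ℤ}
    (hχ : χ ∈ s) : c χ = 0 :=
  linearIndependent_iff'.1 ((linearIndependent_monoidHom (Fin r → kˣ) k).comp _ ch_injective) s c
    (funext fun x => by simpa [Finset.sum_apply] using h x) χ hχ

/-- **Weight decomposition** of a matrix representation of a split torus. -/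
theorem exists_weights [DecidableEq ι] (τ : (Fin r → kˣ) →* Matrix ι ι k)
    (hτ : ∀ i j, ∃ c : (Fin r → ℤ) →₀ k, ∀ x, τ x i j = c.sum fun χ a => a * ch χ x) :
    ∃ (s : Finset (Fin r → ℤ)) (E : (Fin r → ℤ) → Matrix ι ι k),
      (∀ x, τ x = ∑ χ ∈ s, ch χ x • E χ) ∧ (∀ x, ∀ χ ∈ s, τ x * E χ = ch χ x • E χ) := by
  classical
  choose c hc using hτ
  let s : Finset (Fin r → ℤ) := Finset.univ.biUnion fun i => Finset.univ.biUnion fun j => (c i j).support
  let E : (Fin r → ℤ) → Matrix ι ι k := fun χ => Matrix.of fun i j => c i j χ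
  have hE : ∀ x, τ x = ∑ χ ∈ s, ch χ x • E χ := fun x => by
    ext i j
    rw [hc, Matrix.sum_apply, Finsupp.sum]
    refine (Finset.sum_subset (fun χ hχ => ?_) fun χ _ hχ => ?_).trans (Finset.sum_congr rfl fun χ _ => ?_)
    · exact Finset.mem_biUnion.2 ⟨i, Finset.mem_univ i, Finset.mem_biUnion.2 ⟨j, Finset.mem_univ j, hχ⟩⟩
    · rw [Finsupp.notMem_support_iff.1 hχ, zero_mul]
    · simp [E, mul_comm]
  refine ⟨s, E, hE, fun x χ hχ => ?_⟩
  ext i j
  refine sub_eq_zero.1 (ch_indep (c := fun χ => (τ x * E χ) i j - (ch χ x • E χ) i j) (fun y => ?_) hχ)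
  have := congrArg (fun M : Matrix ι ι k => M i j) (show τ x * τ y = τ (x * y) from (map_mul τ x y).symm)
  rw [hE y, hE (x * y), Finset.mul_sum, Matrix.sum_apply, Matrix.sum_apply] at this
  simp only [mul_smul_comm, Matrix.smul_apply, smul_eq_mul, map_mul] at this
  simp only [sub_mul, Finset.sum_sub_distrib, Matrix.smul_apply, smul_eq_mul, sub_eq_zero]
  calc ∑ χ ∈ s, (τ x * E χ) i j * ch χ y = ∑ χ ∈ s, ch χ y * (τ x * E χ) i j :=
        Finset.sum_congr rfl fun χ _ => mul_comm _ _
    _ = ∑ χ ∈ s, ch χ x * ch χ y * E χ i j := this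
    _ = _ := Finset.sum_congr rfl fun χ _ => by ring

end Weights

end Groth.Agf2.Chev
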