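import Groth.Agent.Agf2.Chev.Pts
import Groth.Agent.AlgGrp1.Blanchard
import Groth.Agent.AlgGrp1.QuotTower
import Groth.Agent.AlgGrp1.BorelConj

/-!
The translates of a subspace stable under a subgroup with proper quotient form a closed set.
-/

set_option autoImplicit false
universe u

open CategoryTheory Limits MonoidalCategory CartesianMonoidalCategory MonObj GrpObj AlgebraicGeometry
open Groth.AlgGrp1 (unitSp rpt exists_rpt rpt_injective exists_rpt_lift)
open WithConv Opposite
open scoped TensorProduct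

noncomputable section

namespace Groth.Agf2.Chev

local instance braidedAlgSpecOf' (R : Type u) [CommRing R] : (algSpec (CommRingCat.of R)).Braided :=
  braidedAlgSpec

variable {k : Type u} [Field k] [IsAlgClosed k] {A : Type u} [CommRing A] [HopfAlgebra k A] [Algebra.FiniteType k A]
  {G : Over (Spec (CommRingCat.of k))} [GrpObj G] (e : CoactBr.sp k A ≅ G) [IsMonHom e.hom]
  {κ : Type} [Fintype κ] [DecidableEq κ] (M : Matrix κ κ A)

theorem isZ_translates {B X : Over (Spec (CommRingCat.of k))} [GrpObj B] (iB : B ⟶ G) [IsMonHom iB]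
    {a : AlgGrp.Action G X} {o : 𝟙_ (Over (Spec (CommRingCat.of k))) ⟶ X} (hX : AGF.IsQuotient iB X a o)
    [IsProper X.hom]
    (hmul : ∀ g h : WithConv (A →ₐ[k] k), M.map (g * h).ofConv = M.map g.ofConv * M.map h.ofConv)
    (L : Submodule k (κ → k)) (hL : ∀ b ∈ pb e iB, ∀ v ∈ L, (M.map (ofConv b : A →ₐ[k] k)).mulVec v ∈ L) :
    IsZ {w : κ → k | ∃ g : WithConv (A →ₐ[k] k), (M.map g.ofConv).mulVec w ∈ L} := by
  classical
  have : LocallyOfFiniteType G.hom := by
    rw [← Over.w e.inv]
    have : IsIso e.inv.left := inferInstanceAs (IsIso ((Over.forget _).map e.inv))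
    have : LocallyOfFiniteType (CoactBr.sp k A).hom := by
      exact (HasRingHomProperty.Spec_iff (P := @LocallyOfFiniteType)).2
        (RingHom.finiteType_algebraMap.2 inferInstance)
    infer_instance
  have := hX.2.1
  have := hX.2.2.1
  have := hX.1
  let P : Type u := MvPolynomial κ k
  let R : Type u := A ⊗[k] P
  have : Algebra.FiniteType k R := Algebra.FiniteType.trans (S := A) inferInstance
    (Algebra.FiniteType.baseChange A)
  have hRft : LocallyOfFiniteType (CoactBr.sp k R).hom := by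
    exact (HasRingHomProperty.Spec_iff (P := @LocallyOfFiniteType)).2
      (RingHom.finiteType_algebraMap.2 inferInstance)
  have hPft : LocallyOfFiniteType (CoactBr.sp k P).hom := by
    exact (HasRingHomProperty.Spec_iff (P := @LocallyOfFiniteType)).2
      (RingHom.finiteType_algebraMap.2 (inferInstanceAs (Algebra.FiniteType k (MvPolynomial κ k))))
  let Aff := CoactBr.sp k P
  have : LocallyOfFiniteType (X ⊗ Aff).hom :=
    inferInstanceAs (LocallyOfFiniteType (pullback.fst X.hom Aff.hom ≫ X.hom))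
  let inl : A →ₐ[k] R := Algebra.TensorProduct.includeLeft
  let inr : P →ₐ[k] R := Algebra.TensorProduct.includeRight
  -- the quotient by inverses
  let q : CoactBr.sp k A ⟶ X := e.hom ≫ ι[G] ≫ a.orbitMap o
  have : IsIso (ι[G]).left := inferInstanceAs (IsIso ((Over.forget _).map ι[G]))
  have : IsIso e.hom.left := inferInstanceAs (IsIso ((Over.forget _).map e.hom))
  have : Flat q.left := inferInstanceAs (Flat (e.hom.left ≫ (ι[G]).left ≫ (a.orbitMap o).left))
  have : Surjective q.left := inferInstanceAs (Surjective (e.hom.left ≫ (ι[G]).left ≫ (a.orbitMap o).left))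
  let ν : CoactBr.sp k R ⟶ CoactBr.sp k A ⊗ Aff := lift (CoactBr.pt inl) (CoactBr.pt inr)
  have : IsIso ν.left := by
    rw [show ν.left = (pullbackSpecIso k A P).inv from pullback.hom_ext
      ((congrArg Over.Hom.left (lift_fst (CoactBr.pt inl) (CoactBr.pt inr))).trans (pullbackSpecIso_inv_fst k A P).symm)
      ((congrArg Over.Hom.left (lift_snd (CoactBr.pt inl) (CoactBr.pt inr))).trans (pullbackSpecIso_inv_snd k A P).symm)]
    infer_instance
  let Φ : CoactBr.sp k R ⟶ X ⊗ Aff := ν ≫ q ▷ Aff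
  have sq := Groth.AlgGrp1.isPullback_whiskerRight q Aff
  have : Flat (q ▷ Aff).left := MorphismProperty.of_isPullback sq ‹Flat q.left›
  have : Surjective (q ▷ Aff).left := MorphismProperty.of_isPullback sq ‹Surjective q.left›
  have : Flat Φ.left := inferInstanceAs (Flat (ν.left ≫ (q ▷ Aff).left))
  have : Surjective Φ.left := inferInstanceAs (Surjective (ν.left ≫ (q ▷ Aff).left))
  have := hRft
  have : LocallyOfFiniteType Φ.left := by
    have : LocallyOfFiniteType (Φ.left ≫ (X ⊗ Aff).hom) := by rw [Over.w]; infer_instance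
    exact locallyOfFiniteType_of_comp Φ.left (X ⊗ Aff).hom
  have hΦopen : IsOpenMap Φ.left.base := by
    have : IsLocallyNoetherian (X ⊗ Aff).left := LocallyOfFiniteType.isLocallyNoetherian (X ⊗ Aff).hom
    have : LocallyOfFinitePresentation Φ.left := inferInstance
    exact Φ.left.isOpenMap
  -- the incidence locus
  let F : Module.Dual k (κ → k) → R := fun l =>
    ∑ i, ∑ j, (l (Pi.single i 1) • M i j) ⊗ₜ[k] (MvPolynomial.X j : P)
  let E' : Set (CoactBr.sp k R).left :=
    PrimeSpectrum.zeroLocus (F '' (L.dualAnnihilator : Set (Module.Dual k (κ → k))))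
  have hE' : IsClosed E' := PrimeSpectrum.isClosed_zeroLocus _
  have hFv : ∀ (χ : R →ₐ[k] k), rpt (kpt χ) ∈ E' ↔
      (M.map (χ.comp inl)).mulVec (fun j => χ.comp inr (MvPolynomial.X j)) ∈ L := by
    intro χ
    have hF : ∀ l, χ (F l) = l ((M.map (χ.comp inl)).mulVec fun j => χ.comp inr (MvPolynomial.X j)) := fun l => by
      have el : ∀ w : κ → k, l w = ∑ i, w i * l (Pi.single i 1) := fun w => by
        conv_lhs => rw [pi_eq_sum_univ' w]
        simp [map_sum]
      rw [el]
      simp only [F, map_sum, Matrix.mulVec, dotProduct, Finset.sum_mul]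
      refine Finset.sum_congr rfl fun i _ => Finset.sum_congr rfl fun j _ => ?_
      show χ ((l (Pi.single i 1) • M i j) ⊗ₜ[k] (MvPolynomial.X j : P)) = χ (inl (M i j)) * χ (inr (MvPolynomial.X j)) * _
      rw [← map_mul, ← TensorProduct.smul_tmul', map_smul, smul_eq_mul, mul_comm]
      show _ = χ ((M i j ⊗ₜ[k] (1 : P)) * ((1 : A) ⊗ₜ[k] (MvPolynomial.X j : P))) * _
      rw [Algebra.TensorProduct.tmul_mul_tmul, _root_.mul_one, _root_.one_mul]
    refine (rpt_kpt_mem χ _).trans ?_
    constructor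
    · intro h
      refine (Subspace.forall_mem_dualAnnihilator_apply_eq_zero_iff L _).1 fun l hl => ?_
      rw [← hF]
      exact h _ ⟨l, hl, rfl⟩
    · rintro h _ ⟨l, hl, rfl⟩
      rw [hF]
      exact (Submodule.mem_dualAnnihilator l).1 hl _ h
  let Z : Set (X ⊗ Aff).left := (Φ.left.base '' E'ᶜ)ᶜ
  have hZ : IsClosed Z := (hΦopen _ hE'.isOpen_compl).isClosed_compl
  -- incident points map into `Z`
  have hsat : ∀ χ : R →ₐ[k] k, rpt (kpt χ) ∈ E' → rpt (kpt χ ≫ Φ) ∈ Z := by
    intro χ hχ hmem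
    obtain ⟨p, hp, hpe⟩ := hmem
    have := LocallyOfFiniteType.jacobsonSpace (CoactBr.sp k R).hom
    obtain ⟨p', ⟨hp', hpe'⟩, hpc⟩ := nonempty_inter_closedPoints (Z := E'ᶜ ∩ Φ.left.base ⁻¹' {rpt (kpt χ ≫ Φ)})
      ⟨p, hp, hpe⟩ (hE'.isOpen_compl.isLocallyClosed.inter
        ((Groth.AlgGrp1.rpt_closed _).preimage Φ.left.continuous).isLocallyClosed)
    obtain ⟨y, rfl⟩ := exists_rpt hpc
    obtain ⟨χ', rfl⟩ := kpt_surjective y
    refine hp' ((hFv χ').2 ?_)
    have eΦ : kpt χ' ≫ Φ = kpt χ ≫ Φ := rpt_injective hpe'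
    have hproj : ∀ ψ : R →ₐ[k] k, kpt ψ ≫ Φ ≫ fst X Aff = (pts e (toConv (ψ.comp inl)))⁻¹ ≫ a.orbitMap o ∧
        kpt ψ ≫ Φ ≫ snd X Aff = kpt (ψ.comp inr) := by
      intro ψ
      refine ⟨?_, ?_⟩
      · simp only [Φ, ν, q, Category.assoc, whiskerRight_fst, lift_fst_assoc]
        rw [← Category.assoc (kpt ψ), kpt_comp, pts_apply, Hom.inv_def, Category.assoc, Category.assoc]
      · simp only [Φ, ν, Category.assoc, whiskerRight_snd, lift_snd]
        exact kpt_comp ψ inr
    have h1 := congrArg (· ≫ fst X Aff) eΦ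
    have h2 := congrArg (· ≫ snd X Aff) eΦ
    simp only [Category.assoc, (hproj χ).1, (hproj χ').1, (hproj χ).2, (hproj χ').2] at h1 h2
    obtain ⟨h, hh⟩ := (Groth.AlgGrp1.comp_orbit_eq_iff hX _ _ _).1 h1.symm
    let ga := toConv (χ.comp inl)
    let ga' := toConv (χ'.comp inl)
    obtain ⟨b, hb⟩ := pts_surjective e (h ≫ iB)
    have hbm : b ∈ pb e iB := (mem_pb e).2 ⟨h, hb.symm⟩
    have hga : ga' = b⁻¹ * ga := by
      refine pts_injective e (inv_injective ?_)
      rw [map_mul, map_inv, _root_.mul_inv_rev, _root_.inv_inv, hb]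
      exact hh
    have h2' := kpt_injective h2
    show (M.map ga'.ofConv).mulVec (fun j => χ'.comp inr (MvPolynomial.X j)) ∈ L
    rw [h2', hga, hmul, ← Matrix.mulVec_mulVec]
    exact hL _ ((pb e iB).inv_mem hbm) _ ((hFv χ).1 hχ)
  -- the projection
  have : IsProper (snd X Aff).left := inferInstanceAs (IsProper (pullback.snd X.hom Aff.hom))
  let S : Set Aff.left := (snd X Aff).left.base '' Z
  have hS : IsClosed S := (snd X Aff).left.isClosedMap _ hZ
  obtain ⟨s, hs⟩ := (PrimeSpectrum.isClosed_iff_zeroLocus S).1 hS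
  have hSpt : ∀ v : κ → k, rpt (kpt (MvPolynomial.aeval v : P →ₐ[k] k)) ∈ S ↔
      v ∈ {w : κ → k | ∃ g : WithConv (A →ₐ[k] k), (M.map g.ofConv).mulVec w ∈ L} := by
    intro v
    constructor
    · rintro ⟨z, hzZ, hz⟩
      have := LocallyOfFiniteType.jacobsonSpace (X ⊗ Aff).hom
      obtain ⟨z', ⟨hz'Z, hz'⟩, hzc⟩ := nonempty_inter_closedPoints
        (Z := Z ∩ (snd X Aff).left.base ⁻¹' {rpt (kpt (MvPolynomial.aeval v : P →ₐ[k] k))})
        ⟨z, hzZ, hz⟩ (hZ.inter ((Groth.AlgGrp1.rpt_closed _).preimage (snd X Aff).left.continuous)).isLocallyClosed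
      obtain ⟨y, rfl⟩ := exists_rpt hzc
      obtain ⟨x, rfl⟩ := exists_rpt_lift Φ y (Φ.left.surjective _)
      obtain ⟨χ, rfl⟩ := kpt_surjective x
      have hχ : rpt (kpt χ) ∈ E' := by
        by_contra h
        exact hz'Z ⟨_, h, rfl⟩
      have e2 : kpt (χ.comp inr) = kpt (MvPolynomial.aeval v : P →ₐ[k] k) := by
        refine Eq.trans ?_ (rpt_injective (show rpt ((kpt χ ≫ Φ) ≫ snd X Aff) = _ from hz'))
        simp only [Φ, ν, Category.assoc, whiskerRight_snd, lift_snd]
        exact (kpt_comp χ inr).symm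
      refine ⟨toConv (χ.comp inl), ?_⟩
      have := (hFv χ).1 hχ
      rwa [show (fun j => χ.comp inr (MvPolynomial.X j)) = v from funext fun j => by
        rw [kpt_injective e2]; exact MvPolynomial.aeval_X v j] at this
    · rintro ⟨g, hg⟩
      let χ : R →ₐ[k] k := Algebra.TensorProduct.lift g.ofConv (MvPolynomial.aeval v) fun _ _ => .all _ _
      have e1 : χ.comp inl = g.ofConv := Algebra.TensorProduct.lift_comp_includeLeft _ _ _
      have e2 : χ.comp inr = MvPolynomial.aeval v :=
        AlgHom.ext fun x => by simp [χ, inr, R]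
      refine ⟨rpt (kpt χ ≫ Φ), hsat χ ((hFv χ).2 ?_), ?_⟩
      · rw [e1, e2]
        convert hg using 2
        funext j
        exact MvPolynomial.aeval_X v j
      · show rpt ((kpt χ ≫ Φ) ≫ snd X Aff) = _
        simp only [Φ, ν, Category.assoc, whiskerRight_snd, lift_snd, kpt_comp, e2]
  intro v hv
  refine (hSpt v).1 ?_
  rw [hs]
  refine (rpt_kpt_mem _ s).2 fun f hf => ?_
  rw [MvPolynomial.aeval_eq_eval]
  refine hv f fun c hc => ?_
  have hc' := (hSpt c).2 hc
  rw [hs] at hc'
  have h0 := (rpt_kpt_mem _ s).1 hc' f hf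
  rwa [MvPolynomial.aeval_eq_eval] at h0

end Groth.Agf2.Chev
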