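import Groth.Agent.Agf2.Chev.Rep
import Groth.Agent.AlgGrp1.GenericCochar

/-!
Chevalley's theorem on the intersection of the Borel subgroups containing a torus, in linear form.
-/

set_option autoImplicit false
set_option linter.unusedSectionVars false
universe u

open WithConv MvPolynomial
open Matrix (mulVec vecMul)

noncomputable section

namespace Groth.Agf2.Chev

variable {k : Type u} [Field k] [IsAlgClosed k]

section Gen

variable {ι : Type} [Fintype ι]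

/-- The constant term of a polynomial curve in a closed set lies in it. -/
theorem sum_mem_of_curve [DecidableEq ι] {S : Set (ι → k)} (hS : IsZ S) {α : Type} (s : Finset α) (n : α → ℕ)
    (u : α → ι → k) (h : ∀ t : k, t ≠ 0 → ∑ b ∈ s, t ^ n b • u b ∈ S) :
    ∑ b ∈ s with n b = 0, u b ∈ S := by
  classical
  have e : ∀ t : k, (fun i => (∑ b ∈ s, Polynomial.C (u b i) * Polynomial.X ^ n b).eval t) =
      ∑ b ∈ s, t ^ n b • u b := fun t => by
    funext i
    simp only [Polynomial.eval_finsetSum, Finset.sum_apply, Polynomial.eval_mul, Polynomial.eval_C,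
      Polynomial.eval_pow, Polynomial.eval_X, Pi.smul_apply, smul_eq_mul]
    exact Finset.sum_congr rfl fun b _ => mul_comm _ _
  have := mem_of_curve hS (fun i => ∑ b ∈ s, Polynomial.C (u b i) * Polynomial.X ^ n b) fun t ht => e t ▸ h t ht
  rw [e] at this
  rw [Finset.sum_filter]
  convert this using 2 with b
  by_cases hb : n b = 0
  · rw [if_pos hb, hb, pow_zero, one_smul]
  · rw [if_neg hb, zero_pow hb, zero_smul]

/-- Sum of homogeneous pieces, evaluated. -/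
theorem eval_eq_sum_component (v : ι → k) (P : MvPolynomial ι k) :
    eval v P = ∑ i ∈ Finset.range (P.totalDegree + 1), eval v (homogeneousComponent i P) := by
  conv_lhs => rw [← sum_homogeneousComponent P, map_sum]

/-- A closed set in a hyperplane with a nonvanishing linear form at each possible point at infinity is finite. -/
theorem finite_of_forms {O : Set (ι → k)} (hOZ : IsZ O) {C : Set (ι → k)} (hCZ : IsZ C)
    (hCc : ∀ c : k, c ≠ 0 → ∀ v ∈ C, c • v ∈ C) (hOC : O ⊆ C) (a : ι → k) (ha : ∀ v ∈ O, dotProduct a v = 1)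
    (F : Set (ι → k)) (hF : ∀ f ∈ F, ∃ c, ∀ v ∈ O, dotProduct f v = c)
    (hFC : ∀ z ∈ C, z ≠ 0 → ∃ f ∈ F, dotProduct f z ≠ 0) : O.Finite := by
  classical
  refine finite_of_no_infinity a ha fun z haz hz => ?_
  by_contra hz0
  have hzC : z ∈ C := hCZ z fun P hP => by
    rw [eval_eq_sum_component]
    exact Finset.sum_eq_zero fun i _ => hz i _ (homogeneousComponent_isHomogeneous i P)
      fun v hv => component_eq_zero hCc hP (hOC hv) i
  obtain ⟨f, hf, hfz⟩ := hFC z hzC hz0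
  obtain ⟨c, hc⟩ := hF f hf
  let L : MvPolynomial ι k := ∑ i, MvPolynomial.C (f i) * X i
  have hL : ∀ v, eval v L = dotProduct f v := fun v => by simp [L, dotProduct]
  have hLh : L.IsHomogeneous 1 := IsHomogeneous.sum _ _ _ fun i _ => isHomogeneous_C_mul_X _ i
  by_cases hc0 : c = 0
  · refine hfz ?_
    rw [← hL]
    exact hz 1 L hLh fun v hv => by rw [hL, hc v hv, hc0]
  let z' : ι → k := (c / dotProduct f z) • z
  have hz'f : dotProduct f z' = c := by
    rw [dotProduct_smul, smul_eq_mul, div_mul_cancel₀ _ hfz]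
  have hz'O : z' ∈ O := hOZ z' fun P hP => by
    let d := P.totalDegree
    let L' : MvPolynomial ι k := MvPolynomial.C c⁻¹ * L
    let Q : MvPolynomial ι k := ∑ i ∈ Finset.range (d + 1), homogeneousComponent i P * L' ^ (d - i)
    have hQh : Q.IsHomogeneous d := IsHomogeneous.sum _ _ _ fun i hi => by
      have hi' : i ≤ d := Nat.lt_succ_iff.1 (Finset.mem_range.1 hi)
      have := (homogeneousComponent_isHomogeneous i P).mul ((hLh.C_mul c⁻¹).pow (d - i))
      rwa [Nat.one_mul, Nat.add_sub_cancel' hi'] at this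
    have hQv : ∀ v, dotProduct f v = c → eval v Q = eval v P := fun v hv => by
      simp only [Q, map_sum, map_mul, map_pow, L', eval_C, hL, hv, inv_mul_cancel₀ hc0, one_pow, mul_one]
      exact (eval_eq_sum_component v P).symm
    rw [← hQv z' hz'f]
    have hQz : eval z Q = 0 := hz d Q hQh fun v hv => by rw [hQv v (hc v hv), hP v hv]
    rw [eval_smul_component]
    refine Finset.sum_eq_zero fun i _ => ?_
    rw [homogeneousComponent_of_mem (n := d) ((mem_homogeneousSubmodule d Q).2 hQh)]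
    split_ifs
    · rw [hQz, mul_zero]
    · rw [map_zero, mul_zero]
  have := ha z' hz'O
  rw [dotProduct_smul, haz, smul_zero] at this
  exact zero_ne_one this

end Gen

variable {A : Type u} [CommRing A] [IsDomain A] [HopfAlgebra k A] [Algebra.FiniteType k A]

/-- The translates of a subspace. -/
def MRep.transl {ι : Type} [Fintype ι] [DecidableEq ι] (R : MRep k A ι) (L : Submodule k (ι → k)) : Set (ι → k) :=
  {v | ∃ g : WithConv (A →ₐ[k] k), (R.ρ g).mulVec v ∈ L}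

section Main

variable {ι : Type} [Fintype ι] [DecidableEq ι] (R : MRep k A ι) (w f₁ : ι → k)

/-- The pairs on the two lines. -/
def pairLine : Submodule k (ι ⊕ ι → k) :=
  (k ∙ w).comap (LinearMap.funLeft k k Sum.inl) ⊓ (k ∙ f₁).comap (LinearMap.funLeft k k Sum.inr)

theorem mem_pairLine {v f : ι → k} : Sum.elim v f ∈ pairLine w f₁ ↔ v ∈ k ∙ w ∧ f ∈ k ∙ f₁ := Iff.rfl

theorem vecMul_ρ_mul (f : ι → k) (g h : WithConv (A →ₐ[k] k)) :
    vecMul (vecMul f (R.ρ g)) (R.ρ h) = vecMul f (R.ρ (g * h)) := by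
  rw [map_mul, Matrix.vecMul_vecMul]

theorem mulVec_ρ_mul (v : ι → k) (g h : WithConv (A →ₐ[k] k)) :
    mulVec (R.ρ g) (mulVec (R.ρ h) v) = mulVec (R.ρ (g * h)) v := by
  rw [map_mul, Matrix.mulVec_mulVec]

theorem mulVec_ρ_inv (v : ι → k) (g : WithConv (A →ₐ[k] k)) :
    mulVec (R.ρ g⁻¹) (mulVec (R.ρ g) v) = v := by
  rw [mulVec_ρ_mul, inv_mul_cancel, map_one, Matrix.one_mulVec]

theorem conj_mem {Bp : Subgroup (WithConv (A →ₐ[k] k))} (hwB : ∀ g, g ∈ Bp ↔ ∃ c : k, mulVec (R.ρ g) w = c • w)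
    {g q : WithConv (A →ₐ[k] k)} {v : ι → k} {c d : k} (hv : v ≠ 0) (hg : mulVec (R.ρ g) v = c • w)
    (hq : mulVec (R.ρ q) v = d • v) : g * q * g⁻¹ ∈ Bp := by
  have hc : c ≠ 0 := fun h => hv (by rw [← mulVec_ρ_inv R v g, hg, h, zero_smul, Matrix.mulVec_zero])
  have hvw : mulVec (R.ρ g⁻¹) w = c⁻¹ • v := by
    rw [← mulVec_ρ_inv R v g, hg, Matrix.mulVec_smul, smul_smul, inv_mul_cancel₀ hc, one_smul]
  refine (hwB _).2 ⟨d, ?_⟩
  rw [← mulVec_ρ_mul, hvw, Matrix.mulVec_smul, ← mulVec_ρ_mul, hq, Matrix.mulVec_smul, hg, smul_smul, smul_smul,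
    show c⁻¹ * d * c = d by field_simp]

variable {r : ℕ} (θ : (Fin r → kˣ) →* WithConv (A →ₐ[k] k)) {AH : Type u} [CommRing AH] [IsDomain AH]
  [HopfAlgebra k AH] [Algebra.FiniteType k AH] (φ : A →ₐc[k] AH)

/-- **Chevalley's theorem**, linear form. -/
theorem conj_mem_stabilizer (Bp : Subgroup (WithConv (A →ₐ[k] k))) (hw : w ≠ 0) (hf₁ : f₁ ≠ 0)
    (hwB : ∀ g, g ∈ Bp ↔ ∃ c : k, mulVec (R.ρ g) w = c • w)
    (hf₁B : ∀ b ∈ Bp, ∃ c : k, vecMul f₁ (R.ρ b) = c • f₁)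
    (hspan : Submodule.span k (Set.range fun g => mulVec (R.ρ g) w) = ⊤)
    (hC : IsZ (R.transl (k ∙ w))) (hC2 : IsZ ((R.sum R.dual).transl (pairLine w f₁)))
    (hθ : ∀ a : A, ∃ c : (Fin r → ℤ) →₀ k, ∀ x, (θ x).ofConv a = c.sum fun χ b => b * ch χ x)
    (hU : HopfRep.IsUnipotent k AH)
    (hin : ∀ g, (∀ x, g * θ x * g⁻¹ ∈ Bp) → ∀ η : WithConv (AH →ₐ[k] k),
      g * Groth.AlgGrp1.convPre φ η * g⁻¹ ∈ Bp)
    (hweyl : ∀ g g', (∀ x, g * θ x * g⁻¹ ∈ Bp) → (∀ x, g' * θ x * g'⁻¹ ∈ Bp) →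
      ∃ n, (∀ x, ∃ x', n⁻¹ * θ x * n = θ x') ∧ g * n * g'⁻¹ ∈ Bp)
    (g : WithConv (A →ₐ[k] k)) (η : WithConv (AH →ₐ[k] k)) :
    g * Groth.AlgGrp1.convPre φ η * g⁻¹ ∈ Bp := by
  classical
  -- weights
  obtain ⟨s, E, hE, hEτ⟩ := exists_weights (R.ρ.comp θ) fun i j => hθ (R.M i j)
  have hτE : ∀ x, ∀ χ ∈ s, E χ * R.ρ (θ x) = ch χ x • E χ := by
    intro x χ hχ
    ext i j
    refine sub_eq_zero.1 (ch_indep (c := fun χ => (E χ * R.ρ (θ x)) i j - (ch χ x • E χ) i j) (fun y => ?_) hχ)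
    have h1 := congrArg (fun M : Matrix ι ι k => M i j)
      (show R.ρ (θ y) * R.ρ (θ x) = R.ρ (θ x) * R.ρ (θ y) by
        rw [← map_mul, ← map_mul, ← map_mul, ← map_mul, mul_comm y x])
    rw [show R.ρ (θ y) = (R.ρ.comp θ) y from rfl, hE y, Finset.sum_mul, Finset.mul_sum, Matrix.sum_apply,
      Matrix.sum_apply] at h1
    rw [show R.ρ (θ x) = (R.ρ.comp θ) x from rfl] at h1 ⊢
    simp only [smul_mul_assoc, mul_smul_comm, Matrix.smul_apply, smul_eq_mul] at h1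
    simp only [sub_mul, Finset.sum_sub_distrib, sub_eq_zero, Matrix.smul_apply, smul_eq_mul]
    refine Eq.trans ?_ ((h1.trans (Finset.sum_congr rfl fun χ hχ => by
      rw [hEτ x χ hχ, Matrix.smul_apply, smul_eq_mul])).trans (Finset.sum_congr rfl fun χ _ => ?_))
    · exact Finset.sum_congr rfl fun χ _ => mul_comm _ _
    · ring
  have hsum1 : ∑ χ ∈ s, E χ = 1 := by
    have := hE 1
    rw [map_one] at this
    rw [this]
    exact Finset.sum_congr rfl fun χ _ => by rw [map_one, one_smul]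
  have hEE : ∀ χ ∈ s, E χ * E χ = E χ := by
    intro χ hχ
    ext i j
    have h0 := ch_indep (s := s) (c := fun ψ => (E ψ * E χ) i j - if ψ = χ then E χ i j else 0) (fun y => by
      simp only [sub_mul, Finset.sum_sub_distrib, ite_mul, zero_mul, Finset.sum_ite_eq', if_pos hχ, sub_eq_zero]
      have h1 := congrArg (fun M : Matrix ι ι k => M i j) (hEτ y χ hχ)
      rw [hE y, Finset.sum_mul, Matrix.sum_apply] at h1
      simp only [smul_mul_assoc, Matrix.smul_apply, smul_eq_mul] at h1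
      rw [mul_comm (E χ i j), ← h1]
      exact Finset.sum_congr rfl fun ψ _ => mul_comm _ _) hχ
    rwa [if_pos rfl, sub_eq_zero] at h0
  obtain ⟨v, hv⟩ := Groth.AlgGrp1.exists_injOn_linearForm s
  have hcc : ∀ (t : kˣ) (χ : Fin r → ℤ), ch χ (cochar v t) = (t : k) ^ v χ := fun t χ => by
    rw [ch_cochar, Units.val_zpow_eq_zpow_val]
  -- the cone
  let C := R.transl (k ∙ w)
  have hCmem : ∀ y ∈ C, ∃ g c, mulVec (R.ρ g) y = c • w := fun y hy => by
    obtain ⟨g, hg⟩ := hy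
    obtain ⟨c, hc⟩ := Submodule.mem_span_singleton.1 hg
    exact ⟨g, c, hc.symm⟩
  have hCc : ∀ (c : k), ∀ y ∈ C, c • y ∈ C := fun c y ⟨g, hg⟩ =>
    ⟨g, by rw [Matrix.mulVec_smul]; exact Submodule.smul_mem _ c hg⟩
  have hCg : ∀ (g : WithConv (A →ₐ[k] k)), ∀ y ∈ C, mulVec (R.ρ g) y ∈ C := fun g y ⟨h, hh⟩ =>
    ⟨h * g⁻¹, by rw [mulVec_ρ_mul, inv_mul_cancel_right]; exact hh⟩
  have hCw : ∀ g, mulVec (R.ρ g) w ∈ C := fun g =>
    ⟨g⁻¹, by rw [mulVec_ρ_inv]; exact Submodule.mem_span_singleton_self w⟩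
  have hCspan : ∀ f : ι → k, (∀ y ∈ C, dotProduct f y = 0) → f = 0 := fun f hf => by
    refine dotProduct_eq_zero f fun y => ?_
    have hy : y ∈ Submodule.span k (Set.range fun g => mulVec (R.ρ g) w) := hspan ▸ Submodule.mem_top
    induction hy using Submodule.span_induction with
    | mem z hz => obtain ⟨g, rfl⟩ := hz; exact hf _ (hCw g)
    | zero => simp
    | add a b _ _ ha hb => rw [dotProduct_add, ha, hb, add_zero]
    | smul c a _ ha => rw [dotProduct_smul, ha, smul_zero]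
  -- limits
  have hlim : ∀ y ∈ C, ∀ (χ₀ : Fin r → ℤ), χ₀ ∈ s → (∀ χ ∈ s, mulVec (E χ) y ≠ 0 → v χ₀ ≤ v χ) →
      mulVec (E χ₀) y ∈ C := by
    intro y hy χ₀ hχ₀ hmin
    let s' := s.filter fun χ => mulVec (E χ) y ≠ 0
    have h1 := sum_mem_of_curve hC s' (fun χ => (v χ - v χ₀).toNat) (fun χ => mulVec (E χ) y) fun t ht => by
      have h2 := hCc (t ^ (-v χ₀)) _ (hCg (θ (cochar v (Units.mk0 t ht))) y hy)
      rw [show R.ρ (θ _) = (R.ρ.comp θ) _ from rfl, hE, Matrix.sum_mulVec, Finset.smul_sum,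
        ← Finset.sum_filter_of_ne (p := fun χ => mulVec (E χ) y ≠ 0) (fun χ _ h h' => h (by
          rw [Matrix.smul_mulVec, h', smul_zero, smul_zero]))] at h2
      convert h2 using 1
      refine Finset.sum_congr rfl fun χ hχ => ?_
      obtain ⟨hχs, hne⟩ := Finset.mem_filter.1 hχ
      rw [Matrix.smul_mulVec, smul_smul, hcc, Units.val_mk0, ← zpow_add₀ ht, ← zpow_natCast,
        Int.toNat_of_nonneg (sub_nonneg.2 (hmin χ hχs hne))]
      congr 2
      ring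
    rw [Finset.sum_eq_single χ₀] at h1
    · exact h1
    · intro χ hχ hne
      obtain ⟨hχ', hn0⟩ := Finset.mem_filter.1 hχ
      obtain ⟨hχs, hne0⟩ := Finset.mem_filter.1 hχ'
      exfalso
      refine hne (hv (Finset.mem_coe.2 hχs) (Finset.mem_coe.2 hχ₀) ?_)
      have := hmin χ hχs hne0
      have := Int.toNat_eq_zero.1 hn0
      omega
    · intro hnm
      by_contra h
      exact hnm (Finset.mem_filter.2 ⟨Finset.mem_filter.2 ⟨hχ₀, h⟩, by simp⟩)
  have heig : ∀ χ ∈ s, ∀ y x, mulVec (R.ρ (θ x)) (mulVec (E χ) y) = ch χ x • mulVec (E χ) y := fun χ hχ y x => by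
    rw [Matrix.mulVec_mulVec, show R.ρ (θ x) = (R.ρ.comp θ) x from rfl, hEτ x χ hχ, Matrix.smul_mulVec]
  have hTin : ∀ {g₀ : WithConv (A →ₐ[k] k)} {χ} {y : ι → k} {c : k}, χ ∈ s → mulVec (E χ) y ≠ 0 →
      mulVec (R.ρ g₀) (mulVec (E χ) y) = c • w → ∀ x, g₀ * θ x * g₀⁻¹ ∈ Bp :=
    fun hχ hne hg x => conj_mem R w hwB hne hg (heig _ hχ _ x)
  have hlow : ∀ y : ι → k, y ≠ 0 → ∃ χ₀ ∈ s, mulVec (E χ₀) y ≠ 0 ∧
      ∀ χ ∈ s, mulVec (E χ) y ≠ 0 → v χ₀ ≤ v χ := by
    intro y hy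
    obtain ⟨χ₀, hχ₀, hmin⟩ := (s.filter fun χ => mulVec (E χ) y ≠ 0).exists_min_image v (by
      rw [Finset.filter_nonempty_iff]
      by_contra! h
      exact hy (by rw [← Matrix.one_mulVec y, ← hsum1, Matrix.sum_mulVec]; exact Finset.sum_eq_zero h))
    obtain ⟨h1, h2⟩ := Finset.mem_filter.1 hχ₀
    exact ⟨χ₀, h1, h2, fun χ hχ hne => hmin χ (Finset.mem_filter.2 ⟨hχ, hne⟩)⟩
  -- the lowest weight
  obtain ⟨m, hm, hmmin⟩ := (s.filter fun χ => E χ ≠ 0).exists_min_image v (by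
    rw [Finset.filter_nonempty_iff]
    obtain ⟨χ₀, h1, h2, -⟩ := hlow w hw
    exact ⟨χ₀, h1, fun h => h2 (by rw [h, Matrix.zero_mulVec])⟩)
  obtain ⟨hms, hEm⟩ := Finset.mem_filter.1 hm
  have hmmin' : ∀ χ ∈ s, E χ ≠ 0 → v m ≤ v χ := fun χ hχ h => hmmin χ (Finset.mem_filter.2 ⟨hχ, h⟩)
  obtain ⟨y₀, hy₀, hv0⟩ : ∃ y ∈ C, mulVec (E m) y ≠ 0 := by
    by_contra! h
    refine hEm (Matrix.ext fun i j => ?_)
    have := congrFun (hCspan (fun j => E m i j) fun y hy => congrFun (h y hy) i) j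
    simpa using this
  let v₀ := mulVec (E m) y₀
  have hv₀C : v₀ ∈ C := hlim y₀ hy₀ m hms fun χ hχ h => hmmin' χ hχ fun h' => h (by rw [h', Matrix.zero_mulVec])
  obtain ⟨g₀, c₀, hg₀⟩ := hCmem v₀ hv₀C
  have hg₀T := hTin hms hv0 hg₀
  -- a covector
  obtain ⟨q, hq⟩ : ∃ q, dotProduct (vecMul f₁ (R.ρ q)) v₀ ≠ 0 := by
    by_contra! h
    refine hf₁ (hCspan f₁ fun y hy => ?_)
    obtain ⟨g', c', hg'⟩ := hCmem y hy
    have hc₀ : c₀ ≠ 0 := fun h0 => hv0 (by rw [← mulVec_ρ_inv R (mulVec (E m) y₀) g₀]; show mulVec _ (mulVec _ v₀) = 0; rw [hg₀, h0, zero_smul, Matrix.mulVec_zero])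
    have h1 : y = (c' * c₀⁻¹) • mulVec (R.ρ (g'⁻¹ * g₀)) v₀ := by
      rw [← mulVec_ρ_mul, hg₀, Matrix.mulVec_smul, smul_smul, mul_assoc, inv_mul_cancel₀ hc₀, mul_one,
        ← Matrix.mulVec_smul, ← hg', mulVec_ρ_inv]
    rw [h1, dotProduct_smul, Matrix.dotProduct_mulVec, h, smul_zero]
  let f' := vecMul f₁ (R.ρ q)
  let u' := mulVec (R.ρ q⁻¹) w
  have hu' : u' ≠ 0 := fun h => hw (by
    rw [← mulVec_ρ_inv R w q⁻¹]; show mulVec _ u' = 0; rw [h, Matrix.mulVec_zero])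
  obtain ⟨M', hM's, hM'ne, hM'max⟩ : ∃ χ₀ ∈ s, mulVec (E χ₀) u' ≠ 0 ∧
      ∀ χ ∈ s, mulVec (E χ) u' ≠ 0 → v χ ≤ v χ₀ := by
    obtain ⟨χ₀, hχ₀, hmax⟩ := (s.filter fun χ => mulVec (E χ) u' ≠ 0).exists_max_image v (by
      rw [Finset.filter_nonempty_iff]
      obtain ⟨χ₀, h1, h2, -⟩ := hlow u' hu'
      exact ⟨χ₀, h1, h2⟩)
    obtain ⟨h1, h2⟩ := Finset.mem_filter.1 hχ₀
    exact ⟨χ₀, h1, h2, fun χ hχ hne => hmax χ (Finset.mem_filter.2 ⟨hχ, hne⟩)⟩
  let u₀ := mulVec (E M') u'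
  let f₀ := vecMul f' (E m)
  have hpair : Sum.elim u₀ f₀ ∈ (R.sum R.dual).transl (pairLine w f₁) := by
    let P₁ := s.filter fun χ => mulVec (E χ) u' ≠ 0
    let P₂ := s.filter fun χ => E χ ≠ 0
    let nn : (Fin r → ℤ) ⊕ (Fin r → ℤ) → ℕ :=
      Sum.elim (fun χ => (v M' - v χ).toNat) (fun χ => (v χ - v m).toNat)
    let uu : (Fin r → ℤ) ⊕ (Fin r → ℤ) → ι ⊕ ι → k :=
      Sum.elim (fun χ => Sum.elim (mulVec (E χ) u') 0) (fun χ => Sum.elim 0 (vecMul f' (E χ)))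
    have h1 := sum_mem_of_curve hC2 (P₁.disjSum P₂) nn uu fun t ht => by
      let x := cochar v (Units.mk0 t ht)⁻¹
      refine ⟨q * (θ x)⁻¹, ?_⟩
      have e : ∑ b ∈ P₁.disjSum P₂, t ^ nn b • uu b =
          Sum.elim (t ^ v M' • mulVec (R.ρ (θ x)) u') (t ^ (-v m) • vecMul f' (R.ρ (θ x)⁻¹)) := by
        rw [Finset.sum_disjSum, ← map_inv, show R.ρ (θ x) = (R.ρ.comp θ) x from rfl,
          show R.ρ (θ x⁻¹) = (R.ρ.comp θ) x⁻¹ from rfl, hE, hE, Matrix.sum_mulVec, Matrix.vecMul_sum]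
        funext z
        rcases z with i | i
        · simp only [Sum.elim_inl, Sum.elim_inr, Pi.add_apply, Finset.sum_apply, Pi.smul_apply, uu, nn,
            Pi.zero_apply, smul_zero, Finset.sum_const_zero, add_zero, Finset.smul_sum]
          refine Eq.trans ?_ (Finset.sum_filter_of_ne (p := fun χ => mulVec (E χ) u' ≠ 0) fun χ _ h h' => h ?_)
          · refine Finset.sum_congr rfl fun χ hχ => ?_
            obtain ⟨hχs, hne⟩ := Finset.mem_filter.1 hχ
            rw [Matrix.smul_mulVec, Pi.smul_apply, smul_eq_mul, smul_eq_mul, smul_eq_mul, ← mul_assoc, hcc,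
              Units.val_inv_eq_inv_val, Units.val_mk0, inv_zpow', ← zpow_add₀ ht, ← zpow_natCast,
              Int.toNat_of_nonneg (sub_nonneg.2 (hM'max χ hχs hne)), ← sub_eq_add_neg]
          · rw [Matrix.smul_mulVec, h', smul_zero, Pi.zero_apply, smul_zero]
        · simp only [Sum.elim_inl, Sum.elim_inr, Pi.add_apply, Finset.sum_apply, Pi.smul_apply, uu, nn,
            Pi.zero_apply, smul_zero, Finset.sum_const_zero, zero_add, Finset.smul_sum]
          refine Eq.trans ?_ (Finset.sum_filter_of_ne (p := fun χ => E χ ≠ 0) fun χ _ h h' => h ?_)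
          · refine Finset.sum_congr rfl fun χ hχ => ?_
            obtain ⟨hχs, hne⟩ := Finset.mem_filter.1 hχ
            have hx : x⁻¹ = cochar v (Units.mk0 t ht) := funext fun i => by simp [x, cochar]
            rw [Matrix.vecMul_smul, Pi.smul_apply, smul_eq_mul, smul_eq_mul, smul_eq_mul, ← mul_assoc, hx, hcc,
              Units.val_mk0, ← zpow_add₀ ht, ← zpow_natCast, Int.toNat_of_nonneg (sub_nonneg.2 (hmmin' χ hχs hne)),
              neg_add_eq_sub]
          · simp [h']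
      rw [e, MRep.sum_ρ, mem_pairLine]
      constructor
      · rw [Matrix.mulVec_smul, mulVec_ρ_mul, inv_mul_cancel_right, mulVec_ρ_mul, mul_inv_cancel, map_one,
          Matrix.one_mulVec]
        exact Submodule.smul_mem _ _ (Submodule.mem_span_singleton_self w)
      · rw [Matrix.mulVec_smul, MRep.dual_ρ, Matrix.mulVec_transpose, vecMul_ρ_mul, vecMul_ρ_mul, _root_.mul_inv_rev,
          inv_inv, inv_mul_cancel_left, mul_inv_cancel, map_one, Matrix.vecMul_one]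
        exact Submodule.smul_mem _ _ (Submodule.mem_span_singleton_self f₁)
    convert h1 using 1
    rw [Finset.sum_filter, Finset.sum_disjSum]
    simp only [nn, uu, Sum.elim_inl, Sum.elim_inr]
    rw [Finset.sum_eq_single M', Finset.sum_eq_single m, if_pos (by simp), if_pos (by simp)]
    · funext z; rcases z with i | i <;> simp [u₀, f₀]
    · intro χ hχ hne
      obtain ⟨hχs, hne0⟩ := Finset.mem_filter.1 hχ
      refine if_neg fun h0 => hne (hv (Finset.mem_coe.2 hχs) (Finset.mem_coe.2 hms) ?_)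
      have := hmmin' χ hχs hne0
      have := Int.toNat_eq_zero.1 h0
      omega
    · exact fun h => absurd hm h
    · intro χ hχ hne
      obtain ⟨hχs, hne0⟩ := Finset.mem_filter.1 hχ
      refine if_neg fun h0 => hne (hv (Finset.mem_coe.2 hχs) (Finset.mem_coe.2 hM's) ?_)
      have := hM'max χ hχs hne0
      have := Int.toNat_eq_zero.1 h0
      omega
    · exact fun h => absurd (Finset.mem_filter.2 ⟨hM's, hM'ne⟩) h
  obtain ⟨h, hh⟩ := hpair
  rw [MRep.sum_ρ, mem_pairLine, MRep.dual_ρ, Matrix.mulVec_transpose] at hh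
  obtain ⟨a₁, ha₁⟩ := Submodule.mem_span_singleton.1 hh.1
  obtain ⟨b₁, hb₁⟩ := Submodule.mem_span_singleton.1 hh.2
  have hhT : ∀ x, h * θ x * h⁻¹ ∈ Bp := hTin hM's hM'ne ha₁.symm
  have hh₀ : dotProduct (vecMul f₁ (R.ρ h)) v₀ ≠ 0 := by
    have e1 : f₀ = b₁ • vecMul f₁ (R.ρ h) := by
      rw [← Matrix.smul_vecMul, hb₁, vecMul_ρ_mul, inv_mul_cancel, map_one, Matrix.vecMul_one]
    intro h0
    apply hq
    have e2 : dotProduct f₀ v₀ = dotProduct f' v₀ := by
      rw [← Matrix.dotProduct_mulVec]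
      show _ = dotProduct f' v₀
      rw [show mulVec (E m) v₀ = v₀ by rw [Matrix.mulVec_mulVec, hEE m hms]]
    show dotProduct f' v₀ = 0
    rw [← e2, e1, smul_dotProduct, h0, smul_zero]
  -- fixed covectors
  let T' : Set (WithConv (A →ₐ[k] k)) := {g | ∀ x, g * θ x * g⁻¹ ∈ Bp}
  have hfix : ∀ g ∈ T', ∀ η : WithConv (AH →ₐ[k] k),
      vecMul (vecMul f₁ (R.ρ g)) (R.ρ (Groth.AlgGrp1.convPre φ η)) = vecMul f₁ (R.ρ g) := by
    intro g hg η
    have hev : ∀ η : WithConv (AH →ₐ[k] k), ∃ c : k,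
        mulVec ((R.res φ).dual.M.map η.ofConv) (vecMul f₁ (R.ρ g)) = c • vecMul f₁ (R.ρ g) := by
      intro η
      obtain ⟨c, hc⟩ := hf₁B _ (hin g hg η⁻¹)
      refine ⟨c, ?_⟩
      show mulVec ((R.res φ).dual.ρ η) _ = _
      rw [MRep.dual_ρ, MRep.res_ρ, Matrix.mulVec_transpose, ← Matrix.smul_vecMul, ← hc, vecMul_ρ_mul, vecMul_ρ_mul,
        inv_mul_cancel_right]
    have := fixed_of_eigen (R.res φ).dual.M (R.res φ).dual.mul (R.res φ).dual.one hU _ hev η⁻¹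
    rw [show (R.res φ).dual.M.map (ofConv η⁻¹ : AH →ₐ[k] k) = (R.res φ).dual.ρ η⁻¹ from rfl, MRep.dual_ρ,
      MRep.res_ρ, Matrix.mulVec_transpose, inv_inv] at this
    exact this
  have hnz : ∀ y ∈ C, y ≠ 0 → ∃ g ∈ T', dotProduct (vecMul f₁ (R.ρ g)) y ≠ 0 := by
    intro y hy hy0
    by_contra! hall
    obtain ⟨χ, hχ, hne, hmin⟩ := hlow y hy0
    obtain ⟨g', c', hg'⟩ := hCmem _ (hlim y hy χ hχ hmin)
    have hg'T := hTin hχ hne hg'
    obtain ⟨n, hnT, hnB⟩ := hweyl g' g₀ hg'T hg₀T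
    obtain ⟨d, hd⟩ := (hwB _).1 hnB
    have hgT : h * n⁻¹ ∈ T' := fun x => by
      obtain ⟨x', hx'⟩ := hnT x
      have := hhT x'
      rw [← hx'] at this
      simpa [mul_assoc] using this
    have hperp : ∀ χ' ∈ s, dotProduct (vecMul f₁ (R.ρ (h * n⁻¹))) (mulVec (E χ') y) = 0 := fun χ' hχ' =>
      ch_indep (s := s) (c := fun χ' => dotProduct (vecMul f₁ (R.ρ (h * n⁻¹))) (mulVec (E χ') y)) (fun x => by
        have h1 : h * n⁻¹ * θ x ∈ T' := fun x' => by
          have := hgT x'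
          rw [show h * n⁻¹ * θ x * θ x' * (h * n⁻¹ * θ x)⁻¹ = h * n⁻¹ * θ x' * (h * n⁻¹)⁻¹ by
            rw [mul_assoc (h * n⁻¹) (θ x), ← map_mul, mul_comm x x', map_mul]; group]
          exact this
        have h2 := hall _ h1
        rw [← vecMul_ρ_mul, ← Matrix.dotProduct_mulVec, show R.ρ (θ x) = (R.ρ.comp θ) x from rfl, hE,
          Matrix.sum_mulVec, dotProduct_sum] at h2
        refine Eq.trans (Finset.sum_congr rfl fun χ' _ => ?_) h2
        rw [Matrix.smul_mulVec, dotProduct_smul, smul_eq_mul, mul_comm]) hχ'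
    have h0 := hperp χ hχ
    have hz : mulVec (E χ) y = c' • mulVec (R.ρ g'⁻¹) w := by rw [← Matrix.mulVec_smul, ← hg', mulVec_ρ_inv]
    have hd0 : d ≠ 0 := fun h => hw (by
      rw [← mulVec_ρ_inv R w (g' * n * g₀⁻¹), hd, h, zero_smul, Matrix.mulVec_zero])
    have hgw : mulVec (R.ρ g'⁻¹) w = d⁻¹ • mulVec (R.ρ (n * g₀⁻¹)) w := by
      rw [← mulVec_ρ_inv R (mulVec (R.ρ (n * g₀⁻¹)) w) g', mulVec_ρ_mul R w g', ← mul_assoc g' n, hd,
        Matrix.mulVec_smul, smul_smul, inv_mul_cancel₀ hd0, one_smul]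
    have hv₀w : mulVec (R.ρ g₀) v₀ = c₀ • w := hg₀
    have hc' : c' ≠ 0 := fun h => hne (by rw [hz, h, zero_smul])
    apply hh₀
    have e : v₀ = c₀ • mulVec (R.ρ g₀⁻¹) w := by rw [← Matrix.mulVec_smul, ← hv₀w, mulVec_ρ_inv]
    rw [hz, hgw, smul_smul, dotProduct_smul, Matrix.dotProduct_mulVec, vecMul_ρ_mul,
      show h * n⁻¹ * (n * g₀⁻¹) = h * g₀⁻¹ by group, smul_eq_mul, mul_eq_zero] at h0
    rw [e, dotProduct_smul, Matrix.dotProduct_mulVec, vecMul_ρ_mul,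
      h0.resolve_left (mul_ne_zero hc' (inv_ne_zero hd0)), smul_zero]
  -- orbits
  have horb : ∀ y ∈ C, ∀ η : WithConv (AH →ₐ[k] k), mulVec (R.ρ (Groth.AlgGrp1.convPre φ η)) y = y := by
    intro y hy η
    by_cases hy0 : y = 0
    · rw [hy0, Matrix.mulVec_zero]
    obtain ⟨g, hg, hgy⟩ := hnz y hy hy0
    let y' := (dotProduct (vecMul f₁ (R.ρ g)) y)⁻¹ • y
    let O : Set (ι → k) := Set.range fun η : WithConv (AH →ₐ[k] k) => mulVec (R.ρ (Groth.AlgGrp1.convPre φ η)) y'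
    have hOZ : IsZ O := by
      have := isZ_orbit (R.res φ).M (R.res φ).mul (R.res φ).one hU y'
      convert this using 2
      funext η
      show _ = mulVec ((R.res φ).ρ η) y'
      rw [MRep.res_ρ]
    have hconst : ∀ g ∈ T', ∀ z ∈ O, dotProduct (vecMul f₁ (R.ρ g)) z = dotProduct (vecMul f₁ (R.ρ g)) y' := by
      rintro g' hg' _ ⟨η, rfl⟩
      rw [Matrix.dotProduct_mulVec, hfix g' hg']
    have hfinO : O.Finite := by
      refine finite_of_forms hOZ hC (fun c _ => hCc c) ?_ (vecMul f₁ (R.ρ g)) (fun z hz => ?_)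
        ((fun g => vecMul f₁ (R.ρ g)) '' T') ?_ fun z hz hz0 => ?_
      · rintro _ ⟨η, rfl⟩
        exact hCg _ _ (hCc _ y hy)
      · rw [hconst g hg z hz, dotProduct_smul, smul_eq_mul, inv_mul_cancel₀ hgy]
      · rintro _ ⟨g', hg', rfl⟩
        exact ⟨_, hconst g' hg'⟩
      · obtain ⟨g', hg', hne⟩ := hnz z hz hz0
        exact ⟨_, ⟨g', hg', rfl⟩, hne⟩
    have hy' : mulVec (R.ρ (Groth.AlgGrp1.convPre φ η)) y' = y' := by
      funext i
      let a : AH := ∑ j, φ (R.M i j) * algebraMap k AH (y' j)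
      have ha : ∀ η : WithConv (AH →ₐ[k] k), η.ofConv a = mulVec (R.ρ (Groth.AlgGrp1.convPre φ η)) y' i := fun η => by
        rw [← MRep.res_ρ]
        simp [a, Matrix.mulVec, dotProduct, MRep.ρ_apply, MRep.res, Matrix.map_apply]
      have := Groth.Misc1.Unip.apply_eq_of_finite (f := a) (hfinO.image fun z => z i)
        (fun c => ⟨_, ⟨toConv c, rfl⟩, (ha (toConv c)).symm⟩) (1 : WithConv (AH →ₐ[k] k)).ofConv η.ofConv
      rw [ha, ha, map_one, map_one, Matrix.one_mulVec] at this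
      exact this
    have hyy : y = dotProduct (vecMul f₁ (R.ρ g)) y • y' := by
      rw [smul_smul, mul_inv_cancel₀ hgy, one_smul]
    rw [hyy, Matrix.mulVec_smul, hy']
  refine (hwB _).2 ⟨1, ?_⟩
  rw [← mulVec_ρ_mul, ← mulVec_ρ_mul, horb _ (hCw g⁻¹) η, mulVec_ρ_mul, mul_inv_cancel, map_one,
    Matrix.one_mulVec, one_smul]

end Main

end Groth.Agf2.Chev
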