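import Groth.Agent.AlgGrp1.CartanDense
import Groth.Agent.AlgGrp1.GenSubgroup
import Groth.Agent.AlgGrp1.NilpotentGrp
import Groth.Agent.Agf2.Chev.Alg

/-!
Rational points of affine groups as algebra maps.
-/

set_option autoImplicit false
universe u

open CategoryTheory Limits MonoidalCategory CartesianMonoidalCategory MonObj GrpObj AlgebraicGeometry
open Groth.AlgGrp1 (unitSp rpt exists_rpt)
open WithConv

noncomputable section

namespace Groth.Agf2.Chev

variable {k : Type u} [Field k]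

local notation "𝕀" => 𝟙_ (Over (Spec (CommRingCat.of k)))

/-- The rational point of a spectrum given by an algebra map. -/
def kpt {C : Type u} [CommRing C] [Algebra k C] (φ : C →ₐ[k] k) : 𝕀 ⟶ CoactBr.sp k C :=
  unitSp.hom ≫ CoactBr.pt φ

theorem kpt_injective {C : Type u} [CommRing C] [Algebra k C] :
    Function.Injective (kpt (k := k) (C := C)) := fun _ _ h =>
  CoactBr.pt_injective ((cancel_epi unitSp.hom).1 h)

theorem kpt_surjective {C : Type u} [CommRing C] [Algebra k C] (x : 𝕀 ⟶ CoactBr.sp k C) :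
    ∃ φ : C →ₐ[k] k, kpt φ = x := by
  obtain ⟨φ, hφ⟩ := Groth.AlgGrp2.pt_surjective (unitSp.inv ≫ x)
  exact ⟨φ, by rw [kpt, hφ, Iso.hom_inv_id_assoc]⟩

theorem kpt_comp {C D : Type u} [CommRing C] [Algebra k C] [CommRing D] [Algebra k D] (φ : C →ₐ[k] k) (ψ : D →ₐ[k] C) :
    kpt φ ≫ CoactBr.pt ψ = kpt (φ.comp ψ) := by
  rw [kpt, kpt, Category.assoc, ← CoactBr.pt_comp]

theorem rpt_kpt_mem {C : Type u} [CommRing C] [Algebra k C] (φ : C →ₐ[k] k) (s : Set C) :
    rpt (kpt φ) ∈ PrimeSpectrum.zeroLocus s ↔ ∀ a ∈ s, φ a = 0 := by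
  refine Iff.trans (PrimeSpectrum.mem_zeroLocus _ _) ?_
  refine forall_congr' fun a => forall_congr' fun _ => ?_
  show φ a ∈ IsLocalRing.maximalIdeal k ↔ _
  rw [IsLocalRing.maximalIdeal_eq_bot, Ideal.mem_bot]

variable {A : Type u} [CommRing A] [HopfAlgebra k A] {G : Over (Spec (CommRingCat.of k))} [GrpObj G]
  (e : CoactBr.sp k A ≅ G) [IsMonHom e.hom]

/-- Rational points of an affine group. -/
def pts : WithConv (A →ₐ[k] k) →* (𝕀 ⟶ G) :=
  MonoidHom.mk' (fun f => kpt f.ofConv ≫ e.hom) fun f g => by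
    rw [kpt, kpt, kpt, Category.assoc, Category.assoc, Category.assoc, ← MonObj.comp_mul]
    exact congrArg (unitSp.hom ≫ ·) (map_mul (Groth.AlgGrp1.hopfPts e) f g)

theorem pts_apply (f : WithConv (A →ₐ[k] k)) : pts e f = kpt f.ofConv ≫ e.hom := rfl

theorem pts_injective : Function.Injective (pts e) := fun _ _ h =>
  WithConv.ofConv_injective (kpt_injective ((cancel_mono e.hom).1 h))

theorem pts_surjective : Function.Surjective (pts e) := fun p => by
  obtain ⟨f, hf⟩ := kpt_surjective (p ≫ e.inv)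
  exact ⟨toConv f, by show kpt f ≫ e.hom = p; rw [hf, Category.assoc, e.inv_hom_id, Category.comp_id]⟩

/-- The rational points in a subgroup. -/
def pb {B : Over (Spec (CommRingCat.of k))} [GrpObj B] (iB : B ⟶ G) [IsMonHom iB] :
    Subgroup (WithConv (A →ₐ[k] k)) :=
  (MonoidHom.mk' (fun x : 𝕀 ⟶ B => x ≫ iB) fun a b => MonObj.mul_comp a b iB).range.comap (pts e)

theorem mem_pb {B : Over (Spec (CommRingCat.of k))} [GrpObj B] {iB : B ⟶ G} [IsMonHom iB]
    {f : WithConv (A →ₐ[k] k)} : f ∈ pb e iB ↔ ∃ x : 𝕀 ⟶ B, x ≫ iB = pts e f := Iff.rfl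

end Groth.Agf2.Chev
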