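import Groth.Agent.Agf2.Chev.Rep
import Groth.Agent.Agf2.Chev.Pts
import Groth.Agent.AlgGrp1.AffineQuot
import Groth.Agent.AlgGrp1.TorusSplit
import Groth.Agent.URad.Unip

/-!
Line stabilisers and parametrisation of tori.
-/

set_option autoImplicit false
set_option linter.unusedSectionVars false
universe u

open CategoryTheory Limits MonoidalCategory CartesianMonoidalCategory MonObj GrpObj AlgebraicGeometry
open Groth.AlgGrp1 (unitSp)
open WithConv
open scoped TensorProduct

noncomputable section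

namespace Groth.Agf2.Chev

variable {k : Type u} [Field k] [IsAlgClosed k] {A : Type u} [CommRing A] [IsDomain A] [HopfAlgebra k A]
  [Algebra.FiniteType k A] {G : Over (Spec (CommRingCat.of k))} [GrpObj G] (e : CoactBr.sp k A ≅ G) [IsMonHom e.hom]

/-- A subgroup is the stabiliser of a line whose translates span. -/
theorem exists_line {B : Over (Spec (CommRingCat.of k))} [GrpObj B] (iB : B ⟶ G) [IsMonHom iB]
    [IsClosedImmersion iB.left] :
    ∃ (d : ℕ) (R : MRep k A (Fin d)) (w : Fin d → k), w ≠ 0 ∧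
      (∀ g, g ∈ pb e iB ↔ ∃ c : k, (R.ρ g).mulVec w = c • w) ∧
      Submodule.span k (Set.range fun g => (R.ρ g).mulVec w) = ⊤ := by
  classical
  have := Groth.URad.isMonHom_inv e
  have : IsIso e.inv.left := inferInstanceAs (IsIso ((Over.forget _).map e.inv))
  have : IsClosedImmersion (iB ≫ e.inv).left := by rw [Over.comp_left]; infer_instance
  obtain ⟨I, _, hI⟩ := Groth.AlgGrp1.exists_hopfIdeal (iB ≫ e.inv)
  obtain ⟨n, m, w, hc, hε, hw, hstab⟩ := Groth.AlgGrp1.exists_mat_stabilizer (k := k) I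
  let R₀ : MRep k A (Fin n) :=
    { M := m
      mul := fun g h => by
        ext i j
        rw [Matrix.map_apply, AlgHom.convMul_apply, hc, Matrix.mul_apply]
        simp [map_sum]
      one := by
        ext i j
        rw [Matrix.map_apply, AlgHom.convOne_apply, hε]
        rfl }
  have hmem : ∀ g, g ∈ pb e iB ↔ ∃ c : k, (R₀.ρ g).mulVec w = c • w := by
    intro g
    have h1 : (∀ a ∈ I, g.ofConv a = 0) ↔ ∃ c : k, (R₀.ρ g).mulVec w = c • w := by
      rw [hstab k g.ofConv]
      refine exists_congr fun c => ?_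
      simp only [Algebra.algebraMap_self, RingHom.id_apply]
      constructor <;> intro h <;> refine Eq.trans h (funext fun i => ?_) <;> simp [mul_comm]
    rw [← h1, hI k g.ofConv, mem_pb]
    constructor
    · rintro ⟨x, hx⟩
      refine ⟨unitSp.inv ≫ x, ?_⟩
      rw [Category.assoc, ← Category.assoc x, hx, pts_apply, kpt]
      simp
    · rintro ⟨x, hx⟩
      refine ⟨unitSp.hom ≫ x, ?_⟩
      rw [pts_apply, kpt, ← hx]
      simp
  let V : Submodule k (Fin n → k) := Submodule.span k (Set.range fun g => (R₀.ρ g).mulVec w)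
  have hwV : w ∈ V := Submodule.subset_span ⟨1, by simp⟩
  have hstabV : ∀ g, ∀ x ∈ V, (R₀.ρ g).mulVec x ∈ V := by
    intro g x hx
    have hle : V ≤ V.comap (Matrix.toLin' (R₀.ρ g)) := by
      refine Submodule.span_le.2 ?_
      rintro _ ⟨h, rfl⟩
      refine Submodule.subset_span ⟨g * h, ?_⟩
      show (R₀.ρ (g * h)).mulVec w = Matrix.toLin' (R₀.ρ g) ((R₀.ρ h).mulVec w)
      rw [Matrix.toLin'_apply, map_mul, Matrix.mulVec_mulVec]
    exact hle hx
  let b := Module.finBasis k V
  let P := LinearMap.toMatrix' (V.subtype.comp b.equivFun.symm.toLinearMap)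
  obtain ⟨r, hr⟩ := (V.subtype.comp b.equivFun.symm.toLinearMap).exists_leftInverse_of_injective
    (LinearMap.ker_eq_bot.2 (V.subtype_injective.comp b.equivFun.symm.injective))
  let Q := LinearMap.toMatrix' r
  have hQP : Q * P = 1 := by rw [← LinearMap.toMatrix'_comp, hr, LinearMap.toMatrix'_id]
  have hP : ∀ y, P.mulVec y ∈ V := fun y => by
    rw [LinearMap.toMatrix'_mulVec]; exact (b.equivFun.symm y).2
  have hPQ : ∀ x ∈ V, P.mulVec (Q.mulVec x) = x := by
    intro x hx
    have e1 : P.mulVec (b.equivFun ⟨x, hx⟩) = x := by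
      rw [LinearMap.toMatrix'_mulVec, LinearMap.comp_apply, LinearEquiv.coe_coe, LinearEquiv.symm_apply_apply]
      rfl
    conv_lhs => rw [← e1, Matrix.mulVec_mulVec _ Q P, hQP, Matrix.one_mulVec]
    exact e1
  let Qa := Q.map (algebraMap k A)
  let Pa := P.map (algebraMap k A)
  have hM : ∀ g : WithConv (A →ₐ[k] k), (Qa * m * Pa).map g.ofConv = Q * R₀.ρ g * P := fun g => by
    rw [Matrix.map_mul, Matrix.map_mul, Matrix.map_map, Matrix.map_map]
    congr 2 <;> ext <;> simp
  let R : MRep k A (Fin (Module.finrank k V)) :=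
    { M := Qa * m * Pa
      mul := fun g h => by
        rw [hM, hM, hM, map_mul]
        refine Matrix.toLin'.injective (LinearMap.ext fun y => ?_)
        simp only [Matrix.toLin'_apply, ← Matrix.mulVec_mulVec]
        rw [hPQ _ (hstabV h _ (hP y))]
      one := by rw [hM, map_one, Matrix.mul_one, hQP] }
  have hρ : ∀ g, (R.ρ g).mulVec (Q.mulVec w) = Q.mulVec ((R₀.ρ g).mulVec w) := fun g => by
    show ((Qa * m * Pa).map g.ofConv).mulVec _ = _
    rw [hM, ← Matrix.mulVec_mulVec, ← Matrix.mulVec_mulVec, hPQ w hwV]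
  refine ⟨_, R, Q.mulVec w, fun h => hw ?_, fun g => ?_, ?_⟩
  · rw [← hPQ w hwV, h, Matrix.mulVec_zero]
  · rw [hmem g]
    refine exists_congr fun c => ?_
    rw [hρ]
    constructor
    · intro h; rw [h, Matrix.mulVec_smul]
    · intro h
      have := congrArg P.mulVec h
      rwa [hPQ _ (hstabV g w hwV), Matrix.mulVec_smul, hPQ w hwV] at this
  · rw [eq_top_iff]
    intro y _
    have hy : y = Matrix.toLin' Q (P.mulVec y) := by
      rw [Matrix.toLin'_apply, Matrix.mulVec_mulVec, hQP, Matrix.one_mulVec]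
    rw [hy]
    have := Submodule.mem_map_of_mem (f := Matrix.toLin' Q) (hP y)
    replace this : Matrix.toLin' Q (P.mulVec y) ∈ Submodule.span k
        (Set.range (⇑(Matrix.toLin' Q) ∘ fun g => (R₀.ρ g).mulVec w)) := by
      rw [Set.range_comp, ← Submodule.map_span]; exact this
    rwa [show (Set.range fun g => (R.ρ g).mulVec (Q.mulVec w)) =
      Set.range (⇑(Matrix.toLin' Q) ∘ fun g => (R₀.ρ g).mulVec w) from
        congrArg Set.range (funext fun g => (hρ g).trans (Matrix.toLin'_apply _ _).symm)]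

/-- The point of the split torus with given coordinates. -/
def latPt {r : ℕ} : (Fin r → kˣ) →* WithConv (MonoidAlgebra k (Multiplicative (Fin r → ℤ)) →ₐ[k] k) where
  toFun x := toConv (MonoidAlgebra.lift k k (Multiplicative (Fin r → ℤ))
    { toFun := fun χ => ch χ.toAdd x
      map_one' := by simp [ch]
      map_mul' := fun a b => by simp [ch, zpow_add, Finset.prod_mul_distrib] })
  map_one' := WithConv.ofConv_injective (MonoidAlgebra.algHom_ext (fun χ => by
    simp [AlgHom.convOne_apply, ch]) (Subsingleton.elim _ _))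
  map_mul' x y := WithConv.ofConv_injective (MonoidAlgebra.algHom_ext (fun χ => by
    simp [AlgHom.convMul_apply, ch, mul_zpow, Finset.prod_mul_distrib]) (Subsingleton.elim _ _))

theorem latPt_single {r : ℕ} (x : Fin r → kˣ) (χ : Multiplicative (Fin r → ℤ)) (a : k) :
    (latPt x).ofConv (MonoidAlgebra.single χ a) = a * ch χ.toAdd x := by
  simp [latPt, MonoidAlgebra.lift_single]

theorem latPt_surjective {r : ℕ} : Function.Surjective (latPt (k := k) (r := r)) := by
  intro φ
  let ev : Multiplicative (Fin r → ℤ) →* k :=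
    (φ.ofConv : MonoidAlgebra k (Multiplicative (Fin r → ℤ)) →* k).comp (MonoidAlgebra.of k _)
  let ev' : Multiplicative (Fin r → ℤ) →* kˣ := ev.toHomUnits
  refine ⟨fun i => ev' (Multiplicative.ofAdd (Pi.single i 1)), WithConv.ofConv_injective
    (MonoidAlgebra.algHom_ext (fun χ => ?_) (Subsingleton.elim _ _))⟩
  rw [latPt_single, _root_.one_mul]
  show ((∏ i, ev' _ ^ χ.toAdd i : kˣ) : k) = ev χ
  simp only [← map_zpow, ← map_prod]
  show ev (∏ i, _) = _
  congr 1
  refine Multiplicative.toAdd.injective ?_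
  rw [toAdd_prod]
  conv_rhs => rw [← Finset.univ_sum_single χ.toAdd]
  refine Finset.sum_congr rfl fun i _ => ?_
  rw [toAdd_zpow, toAdd_ofAdd, ← Pi.single_smul, smul_eq_mul, _root_.mul_one]

/-- A torus is parametrised by a homomorphism with Laurent polynomial coordinates. -/
theorem exists_param {T : Over (Spec (CommRingCat.of k))} [GrpObj T] (iT : T ⟶ G) [IsMonHom iT]
    (hT : Red.IsTorus T) :
    ∃ (r : ℕ) (θ : (Fin r → kˣ) →* WithConv (A →ₐ[k] k)),
      (∀ g, g ∈ pb e iT ↔ ∃ x, θ x = g) ∧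
      ∀ a : A, ∃ c : (Fin r → ℤ) →₀ k, ∀ x, (θ x).ofConv a = c.sum fun χ b => b * ch χ x := by
  classical
  obtain ⟨r, d, hd⟩ := Groth.AlgGrp1.exists_diag_iso_of_isTorus hT
  have := hd
  obtain ⟨φ, hφ⟩ := Groth.AlgGrp2.pt_surjective (R := k) (B := A) (d.hom ≫ iT ≫ e.inv)
  let θ₀ : (Fin r → kˣ) → WithConv (A →ₐ[k] k) := fun x => toConv ((latPt x).ofConv.comp φ)
  have hθ : ∀ x, pts e (θ₀ x) = pts d (latPt x) ≫ iT := fun x => by
    rw [pts_apply, pts_apply]
    show kpt ((latPt x).ofConv.comp φ) ≫ e.hom = _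
    rw [← kpt_comp, hφ]
    simp
  let θ : (Fin r → kˣ) →* WithConv (A →ₐ[k] k) := MonoidHom.mk' θ₀ fun x y => pts_injective e (by
    rw [map_mul, hθ, hθ, hθ, map_mul, map_mul, MonObj.mul_comp])
  refine ⟨r, θ, fun g => ?_, fun a => ?_⟩
  · rw [mem_pb]
    constructor
    · rintro ⟨t, ht⟩
      obtain ⟨f, rfl⟩ := pts_surjective d t
      obtain ⟨x, rfl⟩ := latPt_surjective f
      exact ⟨x, pts_injective e ((hθ x).trans ht)⟩
    · rintro ⟨x, rfl⟩
      exact ⟨_, (hθ x).symm⟩
  · refine ⟨(MonoidAlgebra.coeff (φ a)).mapDomain Multiplicative.toAdd, fun x => ?_⟩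
    rw [Finsupp.sum_mapDomain_index (by simp) (by simp [add_mul])]
    show (latPt x).ofConv (φ a) = _
    conv_lhs => rw [← MonoidAlgebra.sum_coeff_single (φ a)]
    rw [map_finsuppSum]
    exact Finsupp.sum_congr fun χ _ => latPt_single x χ _

end Groth.Agf2.Chev
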