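import Groth.Agent.Agf2.Chev.Core
import Groth.Agent.Agf2.Chev.Closed
import Groth.Agent.Agf2.Chev.Line
import Groth.Agent.Agf2.BorelWeyl
import Groth.Agent.Agf2.UnipPart
import Groth.Agent.URad.Apply
import Groth.Agent.AlgGrp1.NormalizerBorel
import Groth.Agent.AlgGrp1.BorelLift
import Groth.Agent.AlgGrp1.BorelCover
import Groth.Agent.AlgGrp1.Geom

/-!
Chevalley's theorem: a connected subgroup contained in the unipotent radicals of all Borel subgroups containing a
maximal torus lies in the unipotent radical.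
-/

set_option autoImplicit false
set_option linter.style.haveILetI false
universe u

open CategoryTheory Limits MonoidalCategory CartesianMonoidalCategory MonObj GrpObj AlgebraicGeometry
open Groth.AlgGrp1
open WithConv

noncomputable section

namespace Groth.Agf2.Chev

variable {k : Type u} [Field k] [IsAlgClosed k]

/-- Factorization through a closed subscheme on rational points. -/
theorem exists_factor_of_points {Y Z X : (Over (Spec (CommRingCat.of k)))} [Smooth Y.hom] [LocallyOfFiniteType X.hom] (c : Z ⟶ X)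
    [IsClosedImmersion c.left] (f : Y ⟶ X) (h : ∀ y : 𝟙_ (Over (Spec (CommRingCat.of k))) ⟶ Y, ∃ z : 𝟙_ (Over (Spec (CommRingCat.of k))) ⟶ Z, z ≫ c = y ≫ f) :
    ∃ z : Y ⟶ Z, z ≫ c = f := by
  have := geometricallyReduced_of_smooth_hom Y
  have := isReduced_left Y
  refine exists_factor_of_range_subset c f ?_
  rintro _ ⟨p, rfl⟩
  suffices h' : Set.univ ⊆ f.left ⁻¹' Set.range c.left from h' (Set.mem_univ p)
  refine subset_of_rpt isOpen_univ.isLocallyClosed
    (c.left.isClosedEmbedding.isClosed_range.preimage f.left.continuous) fun y _ => ?_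
  obtain ⟨z, hz⟩ := h y
  exact ⟨rpt z, congrArg rpt hz⟩

/-- A rational point acts by conjugation. -/
theorem pt_conjBy {G H : (Over (Spec (CommRingCat.of k)))} [GrpObj G] (x : 𝟙_ (Over (Spec (CommRingCat.of k))) ⟶ G) (i : H ⟶ G) (y : 𝟙_ (Over (Spec (CommRingCat.of k))) ⟶ H) :
    y ≫ AGF.conjBy x i = x * (y ≫ i) * x⁻¹ := by
  rw [comp_conjBy, toUnit_unique (toUnit (𝟙_ (Over (Spec (CommRingCat.of k))))) (𝟙 _), Category.id_comp]

variable {A : Type u} [CommRing A] [HopfAlgebra k A] {G : (Over (Spec (CommRingCat.of k)))} [GrpObj G]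

/-- Points of a Hopf algebra map. -/
theorem pts_convPre {B : (Over (Spec (CommRingCat.of k)))} [GrpObj B] (e : CoactBr.sp k A ≅ G) [IsMonHom e.hom] {AB : Type u} [CommRing AB]
    [HopfAlgebra k AB] (eB : CoactBr.sp k AB ≅ B) [IsMonHom eB.hom] (ψ : A →ₐc[k] AB) (i : B ⟶ G)
    (hψ : CoactBr.pt (ψ : A →ₐ[k] AB) = eB.hom ≫ i ≫ e.inv) (g : WithConv (AB →ₐ[k] k)) :
    pts e (convPre ψ g) = pts eB g ≫ i := by
  rw [pts_apply, pts_apply]
  show kpt (g.ofConv.comp (ψ : A →ₐ[k] AB)) ≫ e.hom = _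
  rw [← kpt_comp, hψ]
  simp

variable [IsAffine G.left] [Smooth G.hom] [ConnectedSpace G.left]

/-- The domain of functions of a smooth connected group. -/
theorem isDomain_of_smooth_connected [Algebra.FiniteType k A] (e : CoactBr.sp k A ≅ G) [IsMonHom e.hom] :
    IsDomain A := by
  have : IsReduced G.left := isReduced_of_smooth G.hom
  have hfi : IsIso e.hom.left := inferInstanceAs (IsIso ((Over.forget _).map e.hom))
  have h_red : IsReduced (CoactBr.sp k A).left := isReduced_of_isOpenImmersion e.hom.left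
  have : IsReduced (Spec (CommRingCat.of A)) := h_red
  have := geometricallyIrreducible_of_connected G
  have : IrreducibleSpace G.left := GeometricallyIrreducible.irreducibleSpace_of_subsingleton G.hom
  have : Nonempty (CoactBr.sp k A).left :=
    ⟨e.inv.left.base (rpt (1 : 𝟙_ (Over (Spec (CommRingCat.of k))) ⟶ G))⟩
  have : IrreducibleSpace (CoactBr.sp k A).left := e.hom.left.isOpenEmbedding.irreducibleSpace
  have : IrreducibleSpace (Spec (CommRingCat.of A)) := this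
  have : IsIntegral (Spec (CommRingCat.of A)) := isIntegral_of_irreducibleSpace_of_isReduced _
  exact (affine_isIntegral_iff (CommRingCat.of A)).1 this

/-- A Borel subgroup containing a given torus. -/
theorem exists_borel_containing {T : (Over (Spec (CommRingCat.of k)))} [GrpObj T] (iT : T ⟶ G) (hT : AGF.IsMaxTorus iT) :
    ∃ (B : (Over (Spec (CommRingCat.of k)))) (_ : GrpObj B) (iB : B ⟶ G) (t : T ⟶ B), Red.IsBorelOver k iB ∧ t ≫ iB = iT := by
  obtain ⟨B, _, i₀, _, X, a, o, hB₀, hX, _⟩ := exists_borel_proper (G := G)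
  obtain ⟨hm, hmono, htor, -⟩ := hT
  obtain ⟨_, _, _⟩ := isAffine_smooth_connected_of_isTorus htor
  have := isClosedImmersion_of_isTorus iT htor
  obtain ⟨x, f, hf⟩ := exists_conj_le hX iT (isSolvableGrp_of_isTorus htor)
  refine ⟨B, inferInstance, AGF.conjBy x⁻¹ i₀, f, isBorelOver_conj hB₀ _, ?_⟩
  rw [comp_conjBy', hf, conjBy_conjBy, inv_mul_cancel, conjBy_one]

/-- **Chevalley's theorem.** -/
theorem le_unipotentRadical {U : (Over (Spec (CommRingCat.of k)))} [GrpObj U] (u : U ⟶ G) (hU : Par.IsUnipotentRadical u)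
    {T : (Over (Spec (CommRingCat.of k)))} [GrpObj T] (iT : T ⟶ G) (hT : AGF.IsMaxTorus iT)
    {H : (Over (Spec (CommRingCat.of k)))} [GrpObj H] (j : H ⟶ G) [IsMonHom j] [IsClosedImmersion j.left] [Smooth H.hom] [ConnectedSpace H.left]
    (hH : ∀ (B : (Over (Spec (CommRingCat.of k)))) [GrpObj B] (iB : B ⟶ G) (t : T ⟶ B), Red.IsBorelOver k iB → t ≫ iB = iT →
      ∀ (V : (Over (Spec (CommRingCat.of k)))) [GrpObj V] (v : V ⟶ B), Par.IsUnipotentRadical v → ∃ f : H ⟶ V, f ≫ v ≫ iB = j) :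
    ∃ g : H ⟶ U, g ≫ u = j := by
  classical
  obtain ⟨B, _, iB, t, hB, ht⟩ := exists_borel_containing iT hT
  obtain ⟨hmB, hcB, hsB, hnB, hsol, -⟩ := id hB
  haveI := hmB; haveI := hcB; haveI := hsB; haveI := hnB
  haveI := hT.1; haveI := hT.2.1
  haveI : Mono iB := Over.mono_of_mono_left iB
  haveI : IsAffine B.left := isAffine_of_isAffineHom iB.left
  haveI : IsAffine H.left := isAffine_of_isAffineHom j.left
  obtain ⟨_, _, _⟩ := isAffine_smooth_connected_of_isTorus hT.2.2.1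
  haveI := isClosedImmersion_of_isTorus iT hT.2.2.1
  obtain ⟨htm, π, hπm, hπ, habs⟩ := exists_retraction_of_isMaxTorus iB hsol hT t ht
  haveI := htm; haveI := hπm
  obtain ⟨V, _, v, hvm, hvc, hVs, hVn, hVnorm, hVu, hVr, hv⟩ := exists_unipotentPart hT.2.2.1 t π hπ habs
  haveI := hvm; haveI := hvc; haveI := hVs; haveI := hVn
  -- the group `H` is unipotent
  obtain ⟨fH, hfH⟩ := hH B iB t hB ht V v hVr
  haveI : IsClosedImmersion (v ≫ iB).left := by rw [Over.comp_left]; infer_instance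
  haveI : Mono (v ≫ iB) := Over.mono_of_mono_left _
  haveI : IsMonHom (fH ≫ v ≫ iB) := hfH.symm ▸ ‹IsMonHom j›
  haveI : IsMonHom fH := Groth.URad.isMonHom_of_comp_mono fH (v ≫ iB)
  haveI : IsClosedImmersion fH.left := by
    have : IsClosedImmersion (fH.left ≫ (v ≫ iB).left) := by rw [← Over.comp_left, hfH]; infer_instance
    exact IsClosedImmersion.of_comp fH.left (v ≫ iB).left
  have hHu : Groth.URad.IsUnip H := Groth.URad.IsUnip.of_closedImmersion fH hVu
  obtain ⟨AH, _, _, _, eH, heH, hAH⟩ := id hHu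
  haveI := heH
  haveI := (isTrigonalizable_of_iso hHu.isSolvableGrp eH).1
  -- Hopf algebras and maps
  obtain ⟨A, _, _, _, e, he⟩ := exists_hopf_iso G
  haveI := he
  haveI := isDomain_of_smooth_connected e
  haveI := Groth.URad.isMonHom_inv e
  obtain ⟨AB, _, _, _, eB, heB⟩ := exists_hopf_iso B
  haveI := heB
  haveI := (isTrigonalizable_of_iso hsol eB).1
  haveI : Group.IsSolvable (WithConv (AB →ₐ[k] k)) := by
    obtain ⟨n, hn⟩ := hsol
    have : Group.IsSolvable (CoactBr.sp k k ⟶ B) := ⟨⟨n, hn _⟩⟩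
    exact Group.isSolvable_of_isSolvable_injective (f := hopfPts eB) (hopfPts_injective eB)
  obtain ⟨ψ, hψ⟩ := exists_bialgHom_of_isMonHom (eB.hom ≫ iB ≫ e.inv)
  obtain ⟨φ, hφ⟩ := exists_bialgHom_of_isMonHom (eH.hom ≫ j ≫ e.inv)
  obtain ⟨r, θ, hθT, hθ⟩ := exists_param e iT hT.2.2.1
  obtain ⟨d, R, w, hw, hwB, hspan⟩ := exists_line e iB
  haveI : Nonempty (Fin d) := by
    by_contra hd
    exact hw (funext fun i => absurd ⟨i⟩ hd)
  -- an eigen covector
  obtain ⟨f₁, hf₁, hf₁e⟩ := (R.res ψ).dual.exists_eigvec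
  have hf₁B : ∀ b ∈ pb e iB, ∃ c : k, Matrix.vecMul f₁ (R.ρ b) = c • f₁ := by
    intro b hb
    obtain ⟨x, hx⟩ := (mem_pb e).1 hb
    obtain ⟨β, rfl⟩ := pts_surjective eB x
    obtain ⟨c, hc⟩ := hf₁e β⁻¹
    refine ⟨c, ?_⟩
    rw [MRep.dual_ρ, MRep.res_ρ, Matrix.mulVec_transpose, _root_.inv_inv] at hc
    rwa [← pts_injective e ((pts_convPre e eB ψ iB hψ β).trans hx)]
  -- closedness
  have : QuasiCompact B.hom := by rw [← Over.w iB]; infer_instance
  obtain ⟨X, a, o, hXd⟩ := Groth.Agent.S3279.result k G B iB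
  have hX : AGF.IsQuotient iB X a o := ⟨hXd.1, hXd.2.2.1, hXd.2.2.2.1, hXd.2.2.2.2⟩
  haveI : IsProper X.hom := isProper_quotient_borel hB hX
  have hC : IsZ (R.transl (k ∙ w)) := isZ_translates e R.M iB hX R.mul _ fun b hb x hx => by
    obtain ⟨c, rfl⟩ := Submodule.mem_span_singleton.1 hx
    obtain ⟨c', hc'⟩ := (hwB b).1 hb
    rw [Matrix.mulVec_smul, ← MRep.ρ_apply, hc', smul_smul]
    exact Submodule.smul_mem _ _ (Submodule.mem_span_singleton_self w)
  have hC2 : IsZ ((R.sum R.dual).transl (pairLine w f₁)) := isZ_translates e _ iB hX (R.sum R.dual).mul _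
    fun b hb x hx => by
    rw [← Sum.elim_comp_inl_inr x] at hx ⊢
    rw [← MRep.ρ_apply, MRep.sum_ρ, mem_pairLine]
    rw [mem_pairLine] at hx
    obtain ⟨c, hc⟩ := Submodule.mem_span_singleton.1 hx.1
    obtain ⟨c', hc'⟩ := Submodule.mem_span_singleton.1 hx.2
    refine ⟨?_, ?_⟩
    · obtain ⟨c'', hc''⟩ := (hwB b).1 hb
      rw [← hc, Matrix.mulVec_smul, hc'', smul_smul]
      exact Submodule.smul_mem _ _ (Submodule.mem_span_singleton_self w)
    · obtain ⟨c'', hc''⟩ := hf₁B _ ((pb e iB).inv_mem hb)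
      rw [← hc', Matrix.mulVec_smul, MRep.dual_ρ, Matrix.mulVec_transpose, hc'', smul_smul]
      exact Submodule.smul_mem _ _ (Submodule.mem_span_singleton_self f₁)
  -- Borel subgroups containing the torus
  have hbor : ∀ g, (∀ x, g * θ x * g⁻¹ ∈ pb e iB) →
      ∃ t' : T ⟶ B, t' ≫ AGF.conjBy (pts e g)⁻¹ iB = iT := by
    intro g hg
    haveI := isClosedImmersion_conjBy (pts e g)⁻¹ iB
    refine exists_factor_of_points _ iT fun y => ?_
    obtain ⟨x', hx'⟩ := pts_surjective e (y ≫ iT)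
    obtain ⟨x, rfl⟩ := (hθT x').1 ((mem_pb e).2 ⟨y, hx'.symm⟩)
    obtain ⟨b, hb⟩ := (mem_pb e).1 (hg x)
    refine ⟨b, ?_⟩
    rw [pt_conjBy, hb, ← hx', map_mul, map_mul, map_inv]
    group
  have hin : ∀ g, (∀ x, g * θ x * g⁻¹ ∈ pb e iB) → ∀ ee : WithConv (AH →ₐ[k] k),
      g * convPre φ ee * g⁻¹ ∈ pb e iB := by
    intro g hg ee
    obtain ⟨t', ht'⟩ := hbor g hg
    obtain ⟨f, hf⟩ := hH B (AGF.conjBy (pts e g)⁻¹ iB) t' (isBorelOver_conj hB _) ht' V v hVr
    refine (mem_pb e).2 ⟨pts eH ee ≫ f ≫ v, ?_⟩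
    have h1 : (pts eH ee ≫ f ≫ v) ≫ AGF.conjBy (pts e g)⁻¹ iB = pts eH ee ≫ j := by
      rw [Category.assoc, Category.assoc, hf]
    rw [pt_conjBy] at h1
    rw [map_mul, map_mul, map_inv, pts_convPre e eH φ j hφ ee, ← h1]
    group
  have hweyl : ∀ g g', (∀ x, g * θ x * g⁻¹ ∈ pb e iB) → (∀ x, g' * θ x * g'⁻¹ ∈ pb e iB) →
      ∃ n, (∀ x, ∃ x', n⁻¹ * θ x * n = θ x') ∧ g * n * g'⁻¹ ∈ pb e iB := by
    intro g g' hg hg'
    obtain ⟨t₁, ht₁⟩ := hbor g hg
    obtain ⟨t₂, ht₂⟩ := hbor g' hg'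
    obtain ⟨n₀, f, f', hf, hf'⟩ := borelPair_conj (isBorelOver_conj hB (pts e g')⁻¹)
      (isBorelOver_conj hB (pts e g)⁻¹) hT hT t₂ ht₂ t₁ ht₁
    obtain ⟨n, rfl⟩ := pts_surjective e n₀
    refine ⟨n, fun x => ?_, ?_⟩
    · obtain ⟨y, hy⟩ := (mem_pb e).1 ((hθT (θ x)).2 ⟨x, rfl⟩)
      obtain ⟨y', hy'⟩ := pts_surjective e ((y ≫ f'.inv) ≫ iT)
      obtain ⟨x', rfl⟩ := (hθT y').1 ((mem_pb e).2 ⟨_, hy'.symm⟩)
      refine ⟨x', pts_injective e ?_⟩
      have h1 : (y ≫ f'.inv) ≫ AGF.conjBy (pts e n) iT = y ≫ iT := by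
        rw [← hf', Category.assoc, f'.inv_hom_id_assoc]
      rw [pt_conjBy, hy, ← hy'] at h1
      rw [map_mul, map_mul, map_inv, ← h1]
      group
    · have he' : f.hom ≫ iB = AGF.conjBy (pts e (g * n * g'⁻¹)) iB := by
        have h1 := congrArg (AGF.conjBy (pts e g)) hf
        rw [conjBy_conjBy, conjBy_conjBy, ← comp_conjBy', conjBy_conjBy, mul_inv_cancel, conjBy_one] at h1
        rw [h1, map_mul, map_mul, map_inv]
      exact (mem_pb e).2 (mem_borel_of_normalizes hB _ (normalizes_of_iso iB _ f he'))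
  have key := conj_mem_stabilizer R w f₁ θ φ (pb e iB) hw hf₁ hwB hf₁B hspan hC hC2 hθ hAH hin hweyl
  -- the conjugates lie in the unipotent part of `B`
  have hconj : ∀ (g : 𝟙_ (Over (Spec (CommRingCat.of k))) ⟶ G) (h : 𝟙_ (Over (Spec (CommRingCat.of k))) ⟶ H), ∃ z : 𝟙_ (Over (Spec (CommRingCat.of k))) ⟶ V, z ≫ v ≫ iB = g * (h ≫ j) * g⁻¹ := by
    intro g h
    haveI := isClosedImmersion_conjBy g j
    haveI := isMonHom_conjBy g j
    obtain ⟨hB', hhB'⟩ := exists_factor_of_points iB (AGF.conjBy g j) fun y => by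
      obtain ⟨g', rfl⟩ := pts_surjective e g
      obtain ⟨ee, rfl⟩ := pts_surjective eH y
      obtain ⟨b, hb⟩ := (mem_pb e).1 (key g' ee)
      exact ⟨b, by rw [hb, pt_conjBy, map_mul, map_mul, map_inv, pts_convPre e eH φ j hφ ee]⟩
    haveI : IsMonHom (hB' ≫ iB) := hhB'.symm ▸ inferInstance
    haveI := Groth.URad.isMonHom_of_comp_mono hB' iB
    obtain ⟨z, hz⟩ := (hv _ hB').2 (unip_hom_torus_eq_one hHu hT.2.2.1 (hB' ≫ π))
    exact ⟨h ≫ z, by rw [Category.assoc, reassoc_of% hz, hhB', pt_conjBy]⟩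
  -- the normal subgroup generated by the conjugates
  haveI : QuasiCompact G.hom := inferInstance
  haveI : Smooth (G ⊗ H).hom := smooth_tensor_over G H
  haveI : QuasiCompact H.hom := inferInstance
  haveI : QuasiCompact (G ⊗ H).hom := inferInstanceAs (QuasiCompact (pullback.fst G.hom H.hom ≫ G.hom))
  have := geometricallyIrreducible_of_connected G
  have := geometricallyIrreducible_of_connected H
  haveI : GeometricallyIrreducible (G ⊗ H).hom :=
    (GeometricallyIrreducible.comp (pullback.fst G.hom H.hom) G.hom :)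
  let f : G ⊗ H ⟶ G := fst G H * (snd G H ≫ j) * (fst G H)⁻¹
  have hfq : ∀ q : 𝟙_ (Over (Spec (CommRingCat.of k))) ⟶ G ⊗ H, q ≫ f = (q ≫ fst G H) * ((q ≫ snd G H) ≫ j) * (q ≫ fst G H)⁻¹ := fun q => by
    simp only [f, MonObj.comp_mul, GrpObj.comp_inv, Category.assoc]
  have hfl : ∀ (g : 𝟙_ (Over (Spec (CommRingCat.of k))) ⟶ G) (h : 𝟙_ (Over (Spec (CommRingCat.of k))) ⟶ H), lift g h ≫ f = g * (h ≫ j) * g⁻¹ := fun g h => by
    rw [hfq, lift_fst, lift_snd]
  obtain ⟨D, _, c, hcm, hcc, hcs, hcD, hrange⟩ := exists_generated_subgroup (f := f)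
    ⟨lift 1 1, by rw [hfl, MonObj.one_comp]; group⟩
    (fun q => ⟨lift (q ≫ fst G H) (q ≫ snd G H)⁻¹, by rw [hfl, hfq, GrpObj.inv_comp]; group⟩)
  haveI := hcm; haveI := hcc; haveI := hcs; haveI := hcD
  have hgen : ∀ x : 𝟙_ (Over (Spec (CommRingCat.of k))) ⟶ G, (∃ d, d ≫ c = x) ↔
      x ∈ Subgroup.closure (Set.range fun q : 𝟙_ (Over (Spec (CommRingCat.of k))) ⟶ G ⊗ H => q ≫ f) := fun x => by
    rw [← SetLike.mem_coe, ← hrange]; rfl
  haveI : LocallyOfFiniteType V.hom := inferInstance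
  obtain ⟨dV, hdV⟩ := exists_factor_of_points (v ≫ iB) c fun y => by
    have hy := (hgen (y ≫ c)).1 ⟨y, rfl⟩
    let Vp : Subgroup (𝟙_ (Over (Spec (CommRingCat.of k))) ⟶ G) :=
      (MonoidHom.mk' (fun x : 𝟙_ (Over (Spec (CommRingCat.of k))) ⟶ V => x ≫ v ≫ iB) fun a b => MonObj.mul_comp a b (v ≫ iB)).range
    refine (Subgroup.closure_le (K := Vp)).2 ?_ hy
    rintro _ ⟨q, rfl⟩
    obtain ⟨z, hz⟩ := hconj (q ≫ fst G H) (q ≫ snd G H)
    exact ⟨z, hz.trans (hfq q).symm⟩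
  haveI : IsMonHom (dV ≫ v ≫ iB) := hdV.symm ▸ hcm
  haveI := Groth.URad.isMonHom_of_comp_mono dV (v ≫ iB)
  haveI : IsClosedImmersion dV.left := by
    have : IsClosedImmersion (dV.left ≫ (v ≫ iB).left) := by rw [← Over.comp_left, hdV]; infer_instance
    exact IsClosedImmersion.of_comp dV.left (v ≫ iB).left
  have hDu : Groth.URad.IsUnip D := Groth.URad.IsUnip.of_closedImmersion dV hVu
  have hDn : AlgGrp.IsNormalHom c := Groth.URad.isNormalHom_of_points c fun g x => by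
    refine (exists_congr fun y => eq_comm).1 ((hgen _).2 ?_)
    let cg : (𝟙_ (Over (Spec (CommRingCat.of k))) ⟶ G) →* (𝟙_ (Over (Spec (CommRingCat.of k))) ⟶ G) := (MulAut.conj g).toMonoidHom
    have hle : Subgroup.closure (Set.range fun q : 𝟙_ (Over (Spec (CommRingCat.of k))) ⟶ G ⊗ H => q ≫ f) ≤
        (Subgroup.closure (Set.range fun q : 𝟙_ (Over (Spec (CommRingCat.of k))) ⟶ G ⊗ H => q ≫ f)).comap cg := by
      rw [Subgroup.closure_le]
      rintro _ ⟨q, rfl⟩
      refine Subgroup.subset_closure ⟨lift (g * (q ≫ fst G H)) (q ≫ snd G H), ?_⟩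
      show lift _ _ ≫ f = g * (q ≫ f) * g⁻¹
      rw [hfl, hfq]
      group
    exact hle ((hgen _).1 ⟨x, rfl⟩)
  obtain ⟨_, _, -, _, _, _, hmax⟩ := (Groth.URad.isUnipotentRadical_iff u).1 hU
  obtain ⟨dU, hdU⟩ := hmax D c hcc hcs hcD hDn hDu
  obtain ⟨zH, hzH⟩ := exists_factor_of_points c j fun y =>
    (hgen (y ≫ j)).2 (Subgroup.subset_closure ⟨lift 1 y, by beta_reduce; rw [hfl]; group⟩)
  exact ⟨zH ≫ dU, by rw [Category.assoc, hdU, hzH]⟩

end Groth.Agf2.Chev
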