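import Groth.Agent.Agf2.Chev.Alg
import Groth.Agent.Misc1.UnipOrbit.Basic

/-!
Orbits of unipotent groups in linear representations are closed (on rational points).
-/

set_option autoImplicit false
universe u

open MvPolynomial WithConv TensorProduct

noncomputable section

namespace Groth.Agf2.Chev

variable {k : Type u} [Field k] [IsAlgClosed k] {A : Type u} [CommRing A] [IsDomain A] [Algebra k A]
  [Algebra.FiniteType k A]

/-- Functions on an integral variety are determined by their values on points. -/
theorem eq_zero_of_points {a : A} (h : ∀ g : A →ₐ[k] k, g a = 0) : a = 0 := by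
  by_contra ha
  let Aa := Localization.Away a
  have : Nontrivial Aa := (IsLocalization.injective Aa
    (powers_le_nonZeroDivisors_of_noZeroDivisors ha)).nontrivial
  have : Algebra.FiniteType k Aa :=
    Algebra.FiniteType.trans (S := A) inferInstance (IsLocalization.finiteType_of_monoid_fg (Submonoid.powers a) _)
  obtain ⟨g, -⟩ := exists_point (k := k) (⊥ : Ideal Aa) bot_ne_top
  have hu : IsUnit (g (algebraMap A Aa a)) :=
    (IsLocalization.map_units Aa (⟨a, Submonoid.mem_powers a⟩ : Submonoid.powers a)).map g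
  exact hu.ne_zero (h (g.comp (IsScalarTower.toAlgHom k A Aa)))

end Groth.Agf2.Chev

namespace Groth.Agf2.Chev

variable {k : Type u} [Field k] [IsAlgClosed k] {B : Type u} [CommRing B] [IsDomain B] [HopfAlgebra k B]
  [Algebra.FiniteType k B] {ι : Type} [Fintype ι] [DecidableEq ι] (M : Matrix ι ι B)
  (hmul : ∀ g h : WithConv (B →ₐ[k] k), M.map (g * h).ofConv = M.map g.ofConv * M.map h.ofConv)
  (hone : M.map (1 : WithConv (B →ₐ[k] k)).ofConv = 1)

include hmul hone in
/-- **Kostant–Rosenlicht** for linear representations. -/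
theorem isZ_orbit (hU : HopfRep.IsUnipotent k B) (v : ι → k) :
    IsZ (Set.range fun g : WithConv (B →ₐ[k] k) => (M.map g.ofConv).mulVec v) := by
  classical
  let co : ι → B := fun i => ∑ j, M i j * algebraMap k B (v j)
  let o : MvPolynomial ι k →ₐ[k] B := aeval co
  let act : WithConv (B →ₐ[k] k) → (ι → k) → (ι → k) := fun g w => (M.map g.ofConv).mulVec w
  have ho : ∀ (g : WithConv (B →ₐ[k] k)) P, g.ofConv (o P) = eval (act g v) P := fun g P => by
    rw [← aeval_eq_eval, ← AlgHom.comp_apply, comp_aeval]
    congr 1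
    congr 1
    funext i
    simp [co, act, Matrix.mulVec, dotProduct]
  have hact : ∀ g h w, act g (act h w) = act (g * h) w := fun g h w => by
    simp only [act, Matrix.mulVec_mulVec, ← hmul]
  have hact1 : ∀ w, act 1 w = w := fun w => by simp only [act, hone, Matrix.one_mulVec]
  -- translated polynomials
  let tr : WithConv (B →ₐ[k] k) → MvPolynomial ι k →ₐ[k] MvPolynomial ι k := fun h =>
    aeval fun i => ∑ j, C (h.ofConv (M i j)) * X j
  have htr : ∀ h P w, eval w (tr h P) = eval (act h w) P := fun h P w => by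
    rw [← aeval_eq_eval, ← aeval_eq_eval, ← AlgHom.comp_apply, comp_aeval]
    congr 1
    congr 1
    funext i
    simp [act, Matrix.mulVec, dotProduct]
  obtain ⟨r, hr, hlift⟩ := exists_lift_open o
  intro z hz
  by_contra hzO
  -- the boundary
  let bd : Set (ι → k) :=
    {w | (∀ P, (∀ c ∈ Set.range (fun g => act g v), eval c P = 0) → eval w P = 0) ∧ w ∉ Set.range fun g => act g v}
  have hbd : ∀ w ∈ bd, ∀ h, eval w (tr h r) = 0 := by
    rintro w ⟨hw, hwO⟩ h
    rw [htr]
    by_contra hne
    obtain ⟨g, hg⟩ := hlift (aeval (act h w)) (fun P hP => by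
      rw [aeval_eq_eval]
      have := hw (tr h P) (by
        rintro _ ⟨g, rfl⟩
        rw [htr]
        show eval (act h (act g v)) P = 0
        rw [hact, ← ho, hP, map_zero])
      rwa [htr] at this) (by rwa [aeval_eq_eval])
    refine hwO ⟨h⁻¹ * toConv g, ?_⟩
    show act (h⁻¹ * toConv g) v = w
    rw [← hact, show act (toConv g) v = act h w from funext fun i => by
      have := AlgHom.congr_fun hg (X i)
      have e : g (o (X i)) = act h w i := this.trans (aeval_X (act h w) i)
      rw [← e, ← eval_X (f := act (toConv g) v) i, ← ho], hact, inv_mul_cancel, hact1]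
  let J : Submodule k (MvPolynomial ι k) :=
    { carrier := {P | ∀ w ∈ bd, eval w P = 0}
      add_mem' := fun hP hQ w hw => by rw [map_add, hP w hw, hQ w hw, add_zero]
      zero_mem' := fun w _ => map_zero _
      smul_mem' := fun c P hP w hw => by rw [smul_eq_C_mul, map_mul, hP w hw, mul_zero] }
  let o' : MvPolynomial ι k →ₐ[k] B := (HopfAlgebra.antipodeAlgHom k B).comp o
  have ho' : ∀ (g : WithConv (B →ₐ[k] k)) P, g.ofConv (o' P) = eval (act g⁻¹ v) P := fun g P => by
    rw [← ho]; rfl
  let M' : Submodule k B := J.map o'.toLinearMap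
  have hpts : ∀ (h : WithConv (B →ₐ[k] k)), ∀ x ∈ M',
      ComodLib.op (V := B) h.ofConv.toLinearMap x ∈ M' := by
    rintro h _ ⟨P, hP, rfl⟩
    refine ⟨tr h⁻¹ P, fun w hw => ?_, ?_⟩
    · -- translates vanish on the boundary, which is stable
      rw [htr]
      refine hP _ ⟨fun Q hQ => ?_, ?_⟩
      · rw [← htr]
        exact hw.1 _ (by rintro _ ⟨g, rfl⟩; rw [htr]; exact hQ _ ⟨h⁻¹ * g, (hact _ _ _).symm⟩)
      · rintro ⟨g, hg⟩
        refine hw.2 ⟨h * g, ?_⟩
        show act (h * g) v = w
        rw [← hact, show act g v = act h⁻¹ w from hg, hact, mul_inv_cancel, hact1]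
    · show o' (tr h⁻¹ P) = ComodLib.op (V := B) h.ofConv.toLinearMap (o' P)
      refine sub_eq_zero.1 (eq_zero_of_points (k := k) fun g => ?_)
      rw [map_sub, sub_eq_zero]
      have h1 : g (ComodLib.op (V := B) h.ofConv.toLinearMap (o' P)) = (toConv g * h).ofConv (o' P) := by
        rw [AlgHom.convMul_apply, ComodLib.op_apply]
        show g (ComodLib.slice h.ofConv.toLinearMap (Coalgebra.comul (R := k) (o' P))) = _
        induction Coalgebra.comul (R := k) (o' P) using TensorProduct.induction_on with
        | zero => simp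
        | tmul p q => simp [mul_comm]
        | add p q hp hq => simp only [map_add, hp, hq]
      refine (ho' (toConv g) _).trans ?_
      rw [h1, ho', htr, hact, mul_inv_rev]
  have hM' : ∀ (φ : B →ₗ[k] k), ∀ x ∈ M', ComodLib.op (V := B) φ x ∈ M' := by
    intro φ x hx
    rw [← Submodule.Quotient.mk_eq_zero M', ← Module.forall_dual_apply_eq_zero_iff k]
    intro ψ
    let ψ' : B →ₗ[k] k := ψ ∘ₗ M'.mkQ
    let b : B := TensorProduct.lid k B (ψ'.rTensor B (Coalgebra.comul (R := k) x))
    have e : ∀ χ : B →ₗ[k] k, ψ' (ComodLib.op (V := B) χ x) = χ b := fun χ => by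
      show ψ' (ComodLib.slice χ (Coalgebra.comul (R := k) x)) = _
      simp only [b]
      induction Coalgebra.comul (R := k) x using TensorProduct.induction_on with
      | zero => simp
      | tmul p q => simp [mul_comm]
      | add p q hp hq => simp only [map_add, hp, hq]
    have hb : b = 0 := eq_zero_of_points (k := k) fun g => by
      have := hpts (toConv g) x hx
      rw [← Submodule.Quotient.mk_eq_zero M'] at this
      exact (e g.toLinearMap).symm.trans (by show ψ (M'.mkQ _) = 0; rw [Submodule.mkQ_apply, this, map_zero])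
    exact (e φ).trans (by rw [hb, map_zero])
  have hne : M' ≠ ⊥ := fun h => hr (eq_zero_of_points (k := k) fun g => by
    have h0 : o' r = 0 := (Submodule.mem_bot k).1 (h ▸ ⟨r, fun w hw => by
      have := hbd w hw 1
      rwa [htr, hact1] at this, rfl⟩)
    have := ho' (toConv g)⁻¹ r
    rw [h0, map_zero, inv_inv, ← ho] at this
    exact this.symm)
  obtain ⟨P, hP, hP1⟩ := Groth.Misc1.UnipOrbit.one_mem_of_ne_bot hU hM' hne
  have hO : ∀ c ∈ Set.range (fun g => act g v), eval c (P - 1) = 0 := by
    rintro _ ⟨g, rfl⟩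
    have := ho' g⁻¹ P
    rw [show o' P = 1 from hP1, map_one, inv_inv] at this
    rw [map_sub, map_one, ← this, sub_self]
  have := hz (P - 1) hO
  rw [map_sub, map_one, hP z ⟨hz, hzO⟩, zero_sub, neg_eq_zero] at this
  exact one_ne_zero this

include hmul hone in
/-- A unipotent group fixes every line it stabilizes. -/
theorem fixed_of_eigen (hU : HopfRep.IsUnipotent k B) (v : ι → k)
    (hv : ∀ g : WithConv (B →ₐ[k] k), ∃ c : k, (M.map g.ofConv).mulVec v = c • v)
    (g : WithConv (B →ₐ[k] k)) : (M.map g.ofConv).mulVec v = v := by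
  classical
  by_cases hv0 : v = 0
  · simp [hv0]
  obtain ⟨i, hi⟩ : ∃ i, v i ≠ 0 := by
    by_contra! h; exact hv0 (funext h)
  choose χ hχ using hv
  let a : B := ∑ j, M i j * algebraMap k B (v j / v i)
  have ha : ∀ g : WithConv (B →ₐ[k] k), g.ofConv a = χ g := fun g => by
    have := congrFun (hχ g) i
    simp only [Matrix.mulVec, dotProduct, Matrix.map_apply, Pi.smul_apply, smul_eq_mul] at this
    simp only [a, map_sum, map_mul, AlgHom.commutes, Algebra.algebraMap_self, RingHom.id_apply, ← mul_div_assoc,
      ← Finset.sum_div]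
    rw [this, mul_div_cancel_right₀ _ hi]
  by_cases hfin : (Set.range χ).Finite
  · -- a connected group has no finite nontrivial image
    have hz : ∏ c ∈ hfin.toFinset, (a - algebraMap k B c) = 0 := eq_zero_of_points (k := k) fun g => by
      rw [map_prod]
      refine Finset.prod_eq_zero (hfin.mem_toFinset.2 ⟨toConv g, rfl⟩) ?_
      rw [map_sub, AlgHom.commutes, Algebra.algebraMap_self, RingHom.id_apply, ← ha (toConv g)]
      exact sub_self _
    obtain ⟨c, -, hc⟩ := Finset.prod_eq_zero_iff.1 hz
    have hcg : ∀ g, χ g = c := fun g => by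
      rw [← ha, sub_eq_zero.1 hc, AlgHom.commutes]; rfl
    have h1 := hχ 1
    rw [hone, Matrix.one_mulVec, hcg] at h1
    rw [hχ, hcg, ← h1]
  · exfalso
    have hmem := isZ_orbit M hmul hone hU v 0 fun P hP => by
      let Q : Polynomial k := aeval (fun j => Polynomial.C (v j) * Polynomial.X) P
      have hQ : ∀ c : k, Q.eval c = eval (c • v) P := fun c => by
        rw [aeval_curve]; exact congrArg (fun w => eval w P) (funext fun j => by
          show Polynomial.eval c (Polynomial.C (v j) * Polynomial.X) = c * v j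
          rw [Polynomial.eval_mul, Polynomial.eval_C, Polynomial.eval_X, mul_comm])
      have hQ0 : Q = 0 := Polynomial.eq_zero_of_infinite_isRoot _ ((Set.not_finite.1 hfin).mono fun c hc => by
        obtain ⟨g, rfl⟩ := hc
        show Q.eval (χ g) = 0
        rw [hQ, ← hχ]
        exact hP _ ⟨g, rfl⟩)
      have := hQ 0
      rw [hQ0, Polynomial.eval_zero, zero_smul] at this
      exact this.symm
    obtain ⟨g, hg⟩ := hmem
    have h := congrArg ((M.map g⁻¹.ofConv).mulVec ·) hg
    simp only [Matrix.mulVec_mulVec, ← hmul, inv_mul_cancel, hone, Matrix.one_mulVec, Matrix.mulVec_zero] at h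
    exact hv0 h

end Groth.Agf2.Chev
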