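import Groth.Agent.Agf2.Chev.Orbit
import Groth.Agent.VarietyBC.TensorAlgClosed
import Groth.Agent.Misc1.Unip.LieKolchin
import Groth.Agent.AlgGrp1.NilpotentGrp

/-!
Matrix representations given on rational points.
-/

set_option autoImplicit false
set_option linter.unusedSectionVars false
universe u

open WithConv TensorProduct Groth.ComodLib

noncomputable section

namespace Groth.Agf2.Chev

variable {k : Type u} [Field k] [IsAlgClosed k]

/-- A tensor is determined by its values on pairs of points. -/
theorem tensor_eq_zero_of_points {A B : Type u} [CommRing A] [IsDomain A] [Algebra k A] [Algebra.FiniteType k A]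
    [CommRing B] [IsDomain B] [Algebra k B] [Algebra.FiniteType k B] {x : A ⊗[k] B}
    (h : ∀ (g : A →ₐ[k] k) (f : B →ₐ[k] k), Algebra.TensorProduct.lift g f (fun _ _ => .all _ _) x = 0) : x = 0 := by
  classical
  let b := Module.Free.chooseBasis k B
  refine (b.baseChange A).repr.injective (Finsupp.ext fun i => ?_)
  rw [map_zero, Finsupp.zero_apply]
  refine eq_zero_of_points (k := k) fun g => ?_
  rw [← Groth.VarietyBC.repr_evalAt]
  suffices Groth.VarietyBC.evalAt g x = 0 by rw [this, map_zero, Finsupp.zero_apply]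
  refine eq_zero_of_points (k := k) fun f => ?_
  rw [← h g f]
  exact DFunLike.congr_fun (show f.comp (Groth.VarietyBC.evalAt g) = Algebra.TensorProduct.lift g f
    (fun _ _ => .all _ _) from Algebra.TensorProduct.ext' fun a c => by simp [Groth.VarietyBC.evalAt]) x

variable {A : Type u} [CommRing A] [HopfAlgebra k A] {ι : Type} [Fintype ι] [DecidableEq ι]

variable (k A ι) in
/-- A matrix representation on rational points. -/
structure MRep where
  /-- matrix -/
  M : Matrix ι ι A
  mul : ∀ g h : WithConv (A →ₐ[k] k), M.map (g * h).ofConv = M.map g.ofConv * M.map h.ofConv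
  one : M.map (1 : WithConv (A →ₐ[k] k)).ofConv = 1

namespace MRep

variable (R : MRep k A ι)

/-- The action of rational points. -/
def ρ : WithConv (A →ₐ[k] k) →* Matrix ι ι k where
  toFun g := R.M.map g.ofConv
  map_one' := R.one
  map_mul' := R.mul

theorem ρ_apply (g : WithConv (A →ₐ[k] k)) : R.ρ g = R.M.map g.ofConv := rfl

theorem comul_M [IsDomain A] [Algebra.FiniteType k A] (i j : ι) :
    Coalgebra.comul (R := k) (R.M i j) = ∑ l, R.M i l ⊗ₜ[k] R.M l j := by
  refine sub_eq_zero.1 (tensor_eq_zero_of_points fun g h => ?_)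
  rw [map_sub, map_sum, sub_eq_zero]
  have h1 := congrFun (congrFun (R.mul (toConv g) (toConv h)) i) j
  rw [Matrix.map_apply, Matrix.mul_apply] at h1
  simp only [Algebra.TensorProduct.lift_tmul]
  refine Eq.trans ?_ h1
  rw [AlgHom.convMul_apply]

theorem counit_M (i j : ι) : Coalgebra.counit (R := k) (R.M i j) = (1 : Matrix ι ι k) i j := by
  rw [← R.one, Matrix.map_apply, AlgHom.convOne_apply]
  simp

/-- A row of the coaction. -/
def row (i : ι) : (ι → k) →ₗ[k] A := ∑ j, (LinearMap.proj j : (ι → k) →ₗ[k] k).smulRight (R.M i j)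

theorem row_apply (i : ι) (x : ι → k) : R.row i x = ∑ j, x j • R.M i j := by
  simp [row, Finset.sum_apply]

theorem row_single (i l : ι) : R.row i (Pi.single l 1) = R.M i l := by
  rw [row_apply, Finset.sum_eq_single l (fun b _ hb => by rw [Pi.single_eq_of_ne hb, zero_smul]) (by simp),
    Pi.single_eq_same, one_smul]

/-- The coaction. -/
def coact : (ι → k) →ₗ[k] (ι → k) ⊗[k] A :=
  ∑ i, (TensorProduct.mk k (ι → k) A (Pi.single i 1)).comp (R.row i)

theorem coact_apply (x : ι → k) : R.coact x = ∑ i, (Pi.single i 1 : ι → k) ⊗ₜ[k] R.row i x := by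
  simp [coact, Finset.sum_apply]

/-- The comodule of a representation. -/
@[reducible] def comod [IsDomain A] [Algebra.FiniteType k A] : HopfRep.Comod k A (ι → k) where
  coact := R.coact
  coassoc := LinearMap.ext fun x => by
    simp only [LinearMap.comp_apply, coact_apply, map_sum, LinearMap.rTensor_tmul, LinearMap.lTensor_tmul,
      LinearEquiv.coe_coe, TensorProduct.sum_tmul, TensorProduct.assoc_tmul, row_single]
    rw [Finset.sum_comm]
    refine Finset.sum_congr rfl fun i _ => ?_
    rw [← TensorProduct.tmul_sum, row_apply R i x]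
    simp only [map_sum, map_smul, R.comul_M, Finset.smul_sum]
    rw [Finset.sum_comm]
    congr 1
    refine Finset.sum_congr rfl fun l _ => ?_
    rw [row_apply, TensorProduct.tmul_sum]
    exact Finset.sum_congr rfl fun j _ => TensorProduct.tmul_smul _ _ _
  counit_comp := LinearMap.ext fun x => by
    simp only [LinearMap.comp_apply, coact_apply, map_sum, LinearMap.lTensor_tmul, LinearMap.flip_apply,
      TensorProduct.mk_apply]
    conv_rhs => rw [pi_eq_sum_univ' x, TensorProduct.sum_tmul]
    refine Finset.sum_congr rfl fun i _ => ?_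
    rw [row_apply, map_sum, Finset.sum_eq_single i
      (fun b _ hb => by rw [map_smul, R.counit_M, Matrix.one_apply_ne (Ne.symm hb), smul_zero]) (by simp),
      map_smul, R.counit_M, Matrix.one_apply_eq, TensorProduct.smul_tmul]

/-- The dual representation. -/
def dual : MRep k A ι where
  M := (R.M.map (HopfAlgebra.antipode k)).transpose
  mul g h := by
    have e : ∀ f : WithConv (A →ₐ[k] k), (R.M.map (HopfAlgebra.antipode k)).transpose.map f.ofConv =
        (R.ρ f⁻¹).transpose := fun f => rfl
    rw [e, e, e, _root_.mul_inv_rev, map_mul, Matrix.transpose_mul]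
  one := by
    show (R.ρ (1 : WithConv (A →ₐ[k] k))⁻¹).transpose = 1
    rw [inv_one, map_one, Matrix.transpose_one]

theorem dual_ρ (g : WithConv (A →ₐ[k] k)) : R.dual.ρ g = (R.ρ g⁻¹).transpose := rfl

/-- Direct sum. -/
def sum {ι' : Type} [Fintype ι'] [DecidableEq ι'] (R' : MRep k A ι') : MRep k A (ι ⊕ ι') where
  M := Matrix.fromBlocks R.M 0 0 R'.M
  mul g h := by
    simp only [Matrix.fromBlocks_map, Matrix.map_zero _ (map_zero _), Matrix.fromBlocks_multiply, R.mul, R'.mul,
      Matrix.mul_zero, Matrix.zero_mul, add_zero, zero_add]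
  one := by
    simp only [Matrix.fromBlocks_map, Matrix.map_zero _ (map_zero _), R.one, R'.one, Matrix.fromBlocks_one]

theorem sum_ρ {ι' : Type} [Fintype ι'] [DecidableEq ι'] (R' : MRep k A ι') (g : WithConv (A →ₐ[k] k))
    (v : ι → k) (w : ι' → k) :
    ((R.sum R').ρ g).mulVec (Sum.elim v w) = Sum.elim ((R.ρ g).mulVec v) ((R'.ρ g).mulVec w) := by
  show ((Matrix.fromBlocks R.M 0 0 R'.M).map g.ofConv).mulVec _ = _
  simp [Matrix.fromBlocks_map, Matrix.map_zero, Matrix.fromBlocks_mulVec, ρ_apply]

/-- Restriction along a map of Hopf algebras. -/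
def res {B : Type u} [CommRing B] [HopfAlgebra k B] (φ : A →ₐc[k] B) : MRep k B ι where
  M := R.M.map φ
  mul g h := by
    rw [Matrix.map_map, Matrix.map_map, Matrix.map_map]
    exact (congrArg (fun f : WithConv (A →ₐ[k] k) => R.M.map f.ofConv) (map_mul (Groth.AlgGrp1.convPre φ) g h)).trans
      (R.mul _ _)
  one := by
    rw [Matrix.map_map]
    exact (congrArg (fun f : WithConv (A →ₐ[k] k) => R.M.map f.ofConv) (map_one (Groth.AlgGrp1.convPre φ))).trans R.one

theorem res_ρ {B : Type u} [CommRing B] [HopfAlgebra k B] (φ : A →ₐc[k] B) (g : WithConv (B →ₐ[k] k)) :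
    (R.res φ).ρ g = R.ρ (Groth.AlgGrp1.convPre φ g) := by
  show (R.M.map φ).map g.ofConv = _
  rw [Matrix.map_map]
  rfl

include R in
/-- A common eigenvector of a connected solvable group. -/
theorem exists_eigvec [IsDomain A] [Algebra.FiniteType k A] [Group.IsSolvable (WithConv (A →ₐ[k] k))] [Nonempty ι] :
    ∃ v : ι → k, v ≠ 0 ∧ ∀ g, ∃ c : k, (R.ρ g).mulVec v = c • v := by
  let := R.comod
  obtain ⟨v, hv0, hv⟩ := Groth.Misc1.Unip.exists_common_eigvec (k := k) (A := A) (V := ι → k)
  refine ⟨v, hv0, fun g => ?_⟩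
  obtain ⟨c, hc⟩ := hv g
  refine ⟨c, Eq.trans ?_ hc⟩
  rw [Groth.Misc1.Unip.pointAct_apply]
  show _ = slice g.ofConv.toLinearMap (R.coact v)
  funext l
  simp [coact_apply, row_apply, Matrix.mulVec, dotProduct, ρ_apply, map_sum, Finset.sum_apply, Pi.single_apply,
    mul_comm]

end MRep

end Groth.Agf2.Chev
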